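import Cfsg.Agent.Lib.G2Deg41.Ctx

/-!
Characteristic different from three: the structure of a representation with one Heisenberg component.
-/

set_option autoImplicit false

namespace Cfsg.Agent.Lib.G2Deg41

open Module

theorem exists_rho (F : Type*) [Field F] [Fintype F] (hq : 5 ≤ Fintype.card F) :
    ∃ ρ : Fˣ, ρ ^ 2 ≠ 1 ∧ ρ ^ 3 ≠ 1 := by
  classical
  obtain ⟨g, hg⟩ := IsCyclic.exists_generator (α := Fˣ)
  have ho : orderOf g = Fintype.card F - 1 := by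
    rw [orderOf_eq_card_of_forall_mem_zpowers hg, Nat.card_eq_fintype_card, Fintype.card_units]
  refine ⟨g, fun e => ?_, fun e => ?_⟩ <;>
    · have := Nat.le_of_dvd (by norm_num) (orderOf_dvd_of_pow_eq_one e)
      omega

theorem sum_pos_ne' {ι : Type*} [Fintype ι] {f : ι → ℕ} (h : ∑ i, f i ≠ 0) : ∃ i, f i ≠ 0 := by
  by_contra hcon; push Not at hcon; exact h (Finset.sum_eq_zero fun i _ => hcon i)

variable {F G V : Type*} [Field F] [Group G] [AddCommGroup V] [Module ℂ V]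

namespace Ctx

variable (X : Ctx F G V)

/-- The stalk of a character of `P L Z`. -/
abbrev T (s l z : F) : Submodule ℂ V := X.E X.D.P s ⊓ X.E X.D.L l ⊓ X.E X.D.Z z

/-- The stalk of a character of the radical modulo its centre. -/
abbrev K (β s1 s2 l : F) : Submodule ℂ V :=
  X.E X.D.Z 0 ⊓ X.E X.D.L l ⊓ X.E X.D.S s2 ⊓ X.E X.D.P s1 ⊓ X.E X.D.B β

/-- The multiplicity of the Heisenberg components. -/
noncomputable def mh : ℕ := finrank ℂ ↥(X.T 0 0 1)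

theorem S_mem_T {s l z : F} (t : F) {v : V} (hv : v ∈ X.T s l z) :
    X.π (X.D.S t) v ∈ X.T (s + 3 * t * z) l z := by
  obtain ⟨⟨hP, hL⟩, hZ⟩ := hv
  refine ⟨⟨X.shift_mem (X.D.PS t) hP fun u => ?_, X.comm_mem (X.D.cSL t) hL⟩, X.comm_mem (X.D.cSZ t) hZ⟩
  rw [X.act_of_mem hZ]; congr 2; ring

theorem B_mem_T {s l z : F} (t : F) {v : V} (hv : v ∈ X.T s l z) :
    X.π (X.D.B t) v ∈ X.T s (l - t * z) z := by
  obtain ⟨⟨hP, hL⟩, hZ⟩ := hv
  refine ⟨⟨X.comm_mem (X.D.cBP t) hP, ?_⟩, X.comm_mem (X.D.cBZ t) hZ⟩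
  rw [sub_eq_add_neg]
  refine X.shift_mem (X.D.LB t) hL fun u => ?_
  rw [X.act_of_mem hZ]; congr 2; ring

theorem A_mem_K {β s1 s2 l : F} (t : F) {v : V} (hv : v ∈ X.K β s1 s2 l) :
    X.π (X.D.A t) v ∈ X.K (β + (t * s1 + t ^ 2 * s2 - t ^ 3 * l)) (s1 + (2 * t * s2 - 3 * t ^ 2 * l))
      (s2 - 3 * t * l) l := by
  obtain ⟨⟨⟨⟨hZ, hL⟩, hS⟩, hP⟩, hB⟩ := hv
  refine ⟨⟨⟨⟨X.comm_mem (X.D.cAZ t) hZ, X.comm_mem (X.D.cAL t) hL⟩, ?_⟩, ?_⟩, ?_⟩
  · rw [sub_eq_add_neg]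
    refine X.shift_mem (X.D.SA t) hS fun u => ?_
    rw [X.act_of_mem hL]; congr 2; ring
  · refine X.shift_mem (X.D.PA t) hP fun u => ?_
    rw [act_mul, act_mul, X.act_of_mem_zero hZ, X.act_of_mem hL, map_smul, X.act_of_mem hS, smul_smul,
      ← AddChar.map_add_eq_mul]
    congr 2; ring
  · refine X.shift_mem (X.D.BA t) hB fun u => ?_
    rw [act_mul, act_mul, act_mul, X.act_of_mem_zero hZ, X.act_of_mem hL, map_smul, X.act_of_mem hS, smul_smul,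
      map_smul, X.act_of_mem hP, smul_smul, ← AddChar.map_add_eq_mul, ← AddChar.map_add_eq_mul]
    congr 2; ring

theorem inv_P_LZS (l s2 : F) : Inv X.π X.D.P (X.E X.D.Z 0 ⊓ X.E X.D.L l ⊓ X.E X.D.S s2) := by
  rintro t v ⟨⟨hZ, hL⟩, hS⟩
  exact ⟨⟨X.comm_mem (X.D.cPZ t) hZ, X.comm_mem (X.D.cPL t) hL⟩,
    X.keep_mem (X.D.SP t) hS fun u => X.act_of_mem_zero hZ _⟩

theorem inv_B_K (l s2 s1 : F) :
    Inv X.π X.D.B (X.E X.D.Z 0 ⊓ X.E X.D.L l ⊓ X.E X.D.S s2 ⊓ X.E X.D.P s1) := by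
  rintro t v ⟨⟨⟨hZ, hL⟩, hS⟩, hP⟩
  exact ⟨⟨⟨X.comm_mem (X.D.cBZ t) hZ, X.keep_mem (X.D.LB t) hL fun u => X.act_of_mem_zero hZ _⟩,
    X.comm_mem (X.D.cBS t) hS⟩, X.comm_mem (X.D.cBP t) hP⟩

/-- The Levi element on the stalks of the radical. -/
theorem K_swap (β s1 s2 l : F) : finrank ℂ ↥(X.K β s1 s2 l) = finrank ℂ ↥(X.K l s2 (-s1) (-β)) := by
  rw [← X.finrank_comap' X.D.na (X.K β s1 s2 l)]
  refine Ctx.fr_congr ?_
  simp only [K, Submodule.comap_inf]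
  rw [X.comap_one X.D.na_Z, X.comap_one X.D.na_B, X.comap_one X.D.na_P, X.comap_neg X.D.na_S,
    X.comap_neg X.D.na_L]
  simp only [Ctx.E]
  ac_rfl

theorem K_tor (a b : Fˣ) (β s1 s2 l : F) : finrank ℂ ↥(X.K β s1 s2 l) =
    finrank ℂ ↥(X.K ((b : F) * β) ((a : F) * b * s1) ((a : F) ^ 2 * b * s2) ((a : F) ^ 3 * b * l)) := by
  have ha := a.ne_zero
  have hb := b.ne_zero
  rw [← X.finrank_comap' (X.D.tor a b) (X.K β s1 s2 l)]
  refine Ctx.fr_congr ?_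
  simp only [K, Submodule.comap_inf]
  rw [X.comap_E (κ := (b : F)) hb (X.D.torB a b), X.comap_E (mul_ne_zero ha hb) (X.D.torP a b),
    X.comap_E (mul_ne_zero (pow_ne_zero _ ha) hb) (X.D.torS a b),
    X.comap_E (mul_ne_zero (pow_ne_zero _ ha) hb) (X.D.torL a b),
    X.comap_E (mul_ne_zero (pow_ne_zero _ ha) (pow_ne_zero _ hb)) (X.D.torZ a b), mul_zero]

variable [FiniteDimensional ℂ V] (h3 : (3 : F) ≠ 0)
include h3

theorem T_eq {z : F} (s l : F) (hz : z ≠ 0) : finrank ℂ ↥(X.T s l z) = X.mh := by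
  have e0 : finrank ℂ ↥(X.T s l z) = finrank ℂ ↥(X.T 0 0 z) := by
    refine le_antisymm ?_ ?_
    · refine (finrank_le_of_act X.π (X.D.S (-s / (3 * z))) fun v hv => X.S_mem_T _ hv).trans ?_
      rw [show s + 3 * (-s / (3 * z)) * z = 0 by field_simp; ring]
      refine finrank_le_of_act X.π (X.D.B (l / z)) fun v hv => ?_
      simpa [div_mul_cancel₀ l hz] using X.B_mem_T (l / z) hv
    · refine (finrank_le_of_act X.π (X.D.B (-l / z)) fun v hv => X.B_mem_T _ hv).trans ?_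
      rw [show (0 : F) - -l / z * z = l by field_simp; ring]
      refine finrank_le_of_act X.π (X.D.S (s / (3 * z))) fun v hv => ?_
      have := X.S_mem_T (s / (3 * z)) hv
      rwa [show 0 + 3 * (s / (3 * z)) * z = s by field_simp; ring] at this
  rw [e0, mh, ← X.finrank_comap' (X.D.tor (Units.mk0 z hz) (Units.mk0 z hz)⁻¹) (X.T 0 0 1)]
  refine Ctx.fr_congr ?_
  simp only [T, Submodule.comap_inf]
  rw [X.comap_E (x := X.D.P) (κ := z * z⁻¹) (mul_ne_zero hz (inv_ne_zero hz))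
      (fun t => by rw [X.D.torP]; simp),
    X.comap_E (x := X.D.L) (κ := z ^ 3 * z⁻¹) (mul_ne_zero (pow_ne_zero _ hz) (inv_ne_zero hz))
      (fun t => by rw [X.D.torL]; simp),
    X.comap_E (x := X.D.Z) (κ := z) hz (fun t => by
      rw [X.D.torZ, Units.val_mk0, Units.val_inv_eq_inv_val, Units.val_mk0,
        show z ^ 3 * z⁻¹ ^ 2 * t = z * t by field_simp])]
  simp

variable [Fintype F]

theorem finrank_L_Z {z : F} (l : F) (hz : z ≠ 0) :
    finrank ℂ ↥(X.E X.D.L l ⊓ X.E X.D.Z z) = Fintype.card F * X.mh := by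
  rw [split X.π X.ψ X.D.addP X.hψ _ ((X.inv_comm X.D.cPL l).inf X.π (X.inv_comm X.D.cPZ z))]
  refine sum_const' _ _ fun s => ?_
  rw [← X.T_eq h3 s l hz]
  exact Ctx.fr_congr (by simp only [T, Ctx.E]; ac_rfl)

theorem finrank_L_Z0 {l : F} (hl : l ≠ 0) :
    finrank ℂ ↥(X.E X.D.L l ⊓ X.E X.D.Z 0) = Fintype.card F * X.mh := by
  rw [← X.finrank_comap' X.D.nb (X.E X.D.L l ⊓ X.E X.D.Z 0), ← X.finrank_L_Z h3 0 (neg_ne_zero.2 hl)]
  refine Ctx.fr_congr ?_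
  rw [Submodule.comap_inf, X.comap_neg X.D.nb_Z, X.comap_one X.D.nb_L, inf_comm]

theorem finrank_S {l : F} (σ : F) (hl : l ≠ 0) :
    finrank ℂ ↥(X.E X.D.Z 0 ⊓ X.E X.D.L l ⊓ X.E X.D.S σ) = X.mh := by
  have hmem : ∀ (t c : F) (v : V), v ∈ X.E X.D.Z 0 ⊓ X.E X.D.L l ⊓ X.E X.D.S c →
      X.π (X.D.A t) v ∈ X.E X.D.Z 0 ⊓ X.E X.D.L l ⊓ X.E X.D.S (c + -(3 * t * l)) := by
    rintro t c v ⟨⟨hZ, hL⟩, hS⟩
    refine ⟨⟨X.comm_mem (X.D.cAZ t) hZ, X.comm_mem (X.D.cAL t) hL⟩, X.shift_mem (X.D.SA t) hS fun u => ?_⟩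
    rw [X.act_of_mem hL]; congr 2; ring
  have hc : ∀ c, finrank ℂ ↥(X.E X.D.Z 0 ⊓ X.E X.D.L l ⊓ eig X.π X.ψ X.D.S c) =
      finrank ℂ ↥(X.E X.D.Z 0 ⊓ X.E X.D.L l ⊓ X.E X.D.S σ) := fun c => by
    refine le_antisymm (finrank_le_of_act X.π (X.D.A ((c - σ) / (3 * l))) fun v hv => ?_)
      (finrank_le_of_act X.π (X.D.A ((σ - c) / (3 * l))) fun v hv => ?_)
    · have := hmem ((c - σ) / (3 * l)) c v hv
      rwa [show c + -(3 * ((c - σ) / (3 * l)) * l) = σ by field_simp; ring] at this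
    · have := hmem ((σ - c) / (3 * l)) σ v hv
      rwa [show σ + -(3 * ((σ - c) / (3 * l)) * l) = c by field_simp; ring] at this
  have h := X.finrank_L_Z0 h3 hl
  rw [inf_comm, split X.π X.ψ X.D.addS X.hψ _ ((X.inv_comm X.D.cSZ 0).inf X.π (X.inv_comm X.D.cSL l)),
    sum_const' _ _ hc] at h
  exact Nat.eq_of_mul_eq_mul_left Fintype.card_pos h

theorem total_ne : finrank ℂ V = (Fintype.card F - 1) * (Fintype.card F * (Fintype.card F * X.mh)) +
    ((Fintype.card F - 1) * (Fintype.card F * X.mh) + finrank ℂ ↥(X.E X.D.L 0 ⊓ X.E X.D.Z 0)) := by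
  rw [← finrank_top ℂ V, split X.π X.ψ X.D.addZ X.hψ ⊤ (fun _ _ _ => trivial),
    sum_zero_const _ (Fintype.card F * (Fintype.card F * X.mh)) fun z hz => ?_, smul_eq_mul, top_inf_eq,
    split X.π X.ψ X.D.addL X.hψ (eig X.π X.ψ X.D.Z 0) (X.inv_comm X.D.cLZ 0),
    sum_zero_const _ (Fintype.card F * X.mh) fun l hl => ?_, smul_eq_mul, inf_comm (eig X.π X.ψ X.D.Z 0)]
  · ring
  · rw [inf_comm]; exact X.finrank_L_Z0 h3 hl
  · rw [top_inf_eq, split X.π X.ψ X.D.addL X.hψ _ (X.inv_comm X.D.cLZ z)]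
    exact sum_const' _ _ fun l => by rw [inf_comm]; exact X.finrank_L_Z h3 l hz

theorem mh_pos (hZ : X.π (X.D.Z 1) ≠ 1) : 1 ≤ X.mh := by
  by_contra hcon
  refine hZ (LinearMap.ext fun v => ?_)
  have hv := sum_avg X.π X.ψ X.D.addZ X.hψ v
  rw [Finset.sum_eq_single (0 : F) (fun c _ hc => ?_) (fun h => absurd (Finset.mem_univ _) h)] at hv
  · rw [← hv]
    exact (eig_zero X.π X.ψ).1 (avg_mem_eig X.π X.ψ X.D.addZ 0 v) 1
  · have h0 : finrank ℂ ↥(eig X.π X.ψ X.D.Z c) = 0 := by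
      rw [split X.π X.ψ X.D.addL X.hψ _ (X.inv_comm X.D.cLZ c)]
      refine Finset.sum_eq_zero fun l _ => ?_
      rw [inf_comm, X.finrank_L_Z h3 l hc, show X.mh = 0 by omega, mul_zero]
    have := avg_mem_eig X.π X.ψ X.D.addZ c v
    rwa [Submodule.finrank_eq_zero.1 h0, Submodule.mem_bot] at this

/-- One component: only one character lies over each long character and short zero. -/
theorem K_unique (hq : 5 ≤ Fintype.card F) (hm : X.mh = 1) {l : F} (hl : l ≠ 0) :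
    finrank ℂ ↥(X.K 0 0 0 l) = 1 ∧ ∀ β s1, β ≠ 0 ∨ s1 ≠ 0 → finrank ℂ ↥(X.K β s1 0 l) = 0 := by
  classical
  set d : F × F → ℕ := fun x => finrank ℂ ↥(X.K x.1 x.2 0 l) with hd
  have hsum : ∑ x : F × F, d x = 1 := by
    have h := X.finrank_S h3 0 hl
    rw [hm, split X.π X.ψ X.D.addP X.hψ _ (X.inv_P_LZS l 0),
      Finset.sum_congr rfl fun s _ => split X.π X.ψ X.D.addB X.hψ _ (X.inv_B_K l 0 s)] at h
    rw [Fintype.sum_prod_type, Finset.sum_comm]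
    exact h
  obtain ⟨x₀, hx₀⟩ := sum_pos_ne' (f := d) (by omega)
  have huniq : ∀ x, d x ≠ 0 → x = x₀ := fun x hx => by
    by_contra hne
    have := Finset.sum_le_univ_sum_of_nonneg (f := d) (s := {x, x₀}) fun _ => Nat.zero_le _
    rw [Finset.sum_pair hne] at this
    omega
  obtain ⟨ρ, h2, h3'⟩ := exists_rho F hq
  have hr := ρ.ne_zero
  have hfix : x₀ = ((ρ : F)⁻¹ ^ 3 * x₀.1, (ρ : F)⁻¹ ^ 2 * x₀.2) := by
    refine (huniq _ ?_).symm
    have h := X.K_tor ρ (Units.mk0 ((ρ : F)⁻¹ ^ 3) (pow_ne_zero _ (inv_ne_zero hr))) x₀.1 x₀.2 0 l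
    rw [mul_zero, Units.val_mk0, show (ρ : F) * (ρ : F)⁻¹ ^ 3 * x₀.2 = (ρ : F)⁻¹ ^ 2 * x₀.2 by field_simp,
      show (ρ : F) ^ 3 * (ρ : F)⁻¹ ^ 3 * l = l by field_simp] at h
    exact fun e => hx₀ (h.trans e)
  have hz : x₀ = (0, 0) := by
    refine Prod.ext ?_ ?_
    · by_contra hne
      refine h3' (Units.ext ?_)
      have := congrArg Prod.fst hfix
      simp only at this
      rw [Units.val_pow_eq_pow_val, Units.val_one]
      field_simp at this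
      exact this
    · by_contra hne
      refine h2 (Units.ext ?_)
      have := congrArg Prod.snd hfix
      simp only at this
      rw [Units.val_pow_eq_pow_val, Units.val_one]
      field_simp at this
      exact this
  refine ⟨?_, fun β s1 h => ?_⟩
  · rw [Finset.sum_eq_single x₀ (fun x _ hx => by_contra fun e => hx (huniq x e))
      (fun e => absurd (Finset.mem_univ _) e), hz] at hsum
    exact hsum
  · by_contra hne
    have := huniq (β, s1) hne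
    rw [hz, Prod.mk.injEq] at this
    tauto

theorem K_long_zero (hq : 5 ≤ Fintype.card F) (hm : X.mh = 1) {l : F} (hl : l ≠ 0) {s1 s2 : F}
    (hs : s1 ≠ 0 ∨ s2 ≠ 0) : finrank ℂ ↥(X.K 0 s1 s2 l) = 0 := by
  by_contra hne
  set t : F := s2 / (3 * l) with ht
  have hs2 : s2 = 3 * t * l := by rw [ht]; field_simp
  have hle := finrank_le_of_act X.π (X.D.A t) fun v hv => X.A_mem_K t hv (β := 0) (s1 := s1) (s2 := s2) (l := l)
  rw [show s2 - 3 * t * l = 0 by rw [hs2]; ring] at hle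
  have hne' : finrank ℂ ↥(X.K (0 + (t * s1 + t ^ 2 * s2 - t ^ 3 * l)) (s1 + (2 * t * s2 - 3 * t ^ 2 * l)) 0 l) ≠ 0 := by
    omega
  have h00 : (0 + (t * s1 + t ^ 2 * s2 - t ^ 3 * l)) = 0 ∧ (s1 + (2 * t * s2 - 3 * t ^ 2 * l)) = 0 := by
    by_contra hcon
    exact hne' ((X.K_unique h3 hq hm hl).2 _ _ (by tauto))
  obtain ⟨e1, e2⟩ := h00
  rw [hs2] at e1 e2
  have ht0 : t ^ 3 * l = 0 := by linear_combination t * e2 - e1
  have t0 : t = 0 := by simpa [hl] using ht0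
  rw [t0] at e2 hs2
  have : s1 = 0 := by linear_combination e2
  simp [hs2, this] at hs

theorem K_beta (hq : 5 ≤ Fintype.card F) (hm : X.mh = 1) {β : F} (hβ : β ≠ 0) :
    finrank ℂ ↥(X.K β 0 0 0) = 1 := by
  rw [X.K_swap, neg_zero]
  exact (X.K_unique h3 hq hm (neg_ne_zero.2 hβ)).1

theorem K_middle (hq : 5 ≤ Fintype.card F) (hm : X.mh = 1) {β s1 s2 : F} (hs : s1 ≠ 0 ∨ s2 ≠ 0) :
    finrank ℂ ↥(X.K β s1 s2 0) = 0 := by
  have hβ0 : ∀ {β s1 s2 : F}, β ≠ 0 → (s1 ≠ 0 ∨ s2 ≠ 0) → finrank ℂ ↥(X.K β s1 s2 0) = 0 := fun hβ h => by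
    rw [X.K_swap]
    exact X.K_long_zero h3 hq hm (neg_ne_zero.2 hβ) (by rw [neg_ne_zero]; tauto)
  by_cases hβ : β = 0
  · subst hβ
    by_contra hne
    have key : ∀ t : F, t * s1 + t ^ 2 * s2 = 0 ∨ (s1 + 2 * t * s2 = 0 ∧ s2 = 0) := fun t => by
      by_contra hcon
      push Not at hcon
      have hle := finrank_le_of_act X.π (X.D.A t) fun v hv => X.A_mem_K t hv (β := 0) (s1 := s1) (s2 := s2) (l := 0)
      rw [mul_zero, mul_zero, sub_zero, sub_zero, zero_add, mul_zero, sub_zero] at hle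
      have := hβ0 hcon.1 (show s1 + 2 * t * s2 ≠ 0 ∨ s2 ≠ 0 by tauto)
      omega
    rcases key 1 with h1 | ⟨h1, h1'⟩
    · obtain ⟨ρ, -, h3'⟩ := exists_rho F hq
      rcases key (ρ : F) with h2 | ⟨h2, h2'⟩
      · have hr : (ρ : F) ≠ 1 := fun e => h3' (by rw [Units.ext (show (ρ : F) = (1 : Fˣ) from e), one_pow])
        have hs2 : s2 = 0 := by
          have : ((ρ : F) ^ 2 - ρ) * s2 = 0 := by linear_combination h2 - (ρ : F) * h1
          refine (mul_eq_zero.1 this).resolve_left (fun e => hr ?_)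
          have e' : (ρ : F) * ((ρ : F) - 1) = 0 := by linear_combination e
          exact sub_eq_zero.1 ((mul_eq_zero.1 e').resolve_left ρ.ne_zero)
        subst hs2
        simp at h1
        simp [h1] at hs
      · subst h2'; simp at h1; simp [h1] at hs
    · subst h1'; simp at h1; simp [h1] at hs
  · exact hβ0 hβ hs

/-- The dimension for one component. -/
theorem finrank_one (hq : 5 ≤ Fintype.card F) (hm : X.mh = 1) :
    finrank ℂ V + 1 = Fintype.card F ^ 3 + finrank ℂ ↥(X.K 0 0 0 0) := by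
  have hinvS : Inv X.π X.D.S (X.E X.D.Z 0 ⊓ X.E X.D.L 0) := (X.inv_comm X.D.cSZ 0).inf X.π (X.inv_comm X.D.cSL 0)
  have h00 : finrank ℂ ↥(X.E X.D.L 0 ⊓ X.E X.D.Z 0) = finrank ℂ ↥(X.K 0 0 0 0) + (Fintype.card F - 1) := by
    rw [inf_comm, split X.π X.ψ X.D.addS X.hψ _ hinvS,
      sum_zero_const _ 0 fun s2 hs2 => ?_, split X.π X.ψ X.D.addP X.hψ _ (X.inv_P_LZS 0 0),
      sum_zero_const _ 0 fun s1 hs1 => ?_, split X.π X.ψ X.D.addB X.hψ _ (X.inv_B_K 0 0 0),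
      sum_zero_const _ _ fun β hβ => X.K_beta h3 hq hm hβ]
    · simp
    · rw [split X.π X.ψ X.D.addB X.hψ _ (X.inv_B_K 0 0 s1)]
      exact Finset.sum_eq_zero fun β _ => X.K_middle h3 hq hm (Or.inl hs1)
    · rw [split X.π X.ψ X.D.addP X.hψ _ (X.inv_P_LZS 0 s2)]
      refine Finset.sum_eq_zero fun s1 _ => ?_
      rw [split X.π X.ψ X.D.addB X.hψ _ (X.inv_B_K 0 s2 s1)]
      exact Finset.sum_eq_zero fun β _ => X.K_middle h3 hq hm (Or.inr hs2)
  rw [X.total_ne h3, h00, hm]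
  obtain ⟨p, hp⟩ : ∃ p, Fintype.card F = p + 1 := ⟨Fintype.card F - 1, by omega⟩
  rw [hp, Nat.add_sub_cancel]
  ring

/-- Two components suffice; one gives nearly as much. -/
theorem ne_three_bound (hq : 5 ≤ Fintype.card F) (hZ : X.π (X.D.Z 1) ≠ 1) :
    Fintype.card F ^ 3 + 1 ≤ finrank ℂ V ∨
      (X.mh = 1 ∧ finrank ℂ V + 1 = Fintype.card F ^ 3 + finrank ℂ ↥(X.K 0 0 0 0) ∧
        finrank ℂ ↥(X.K 0 0 0 0) ≤ 1) := by
  have hm := X.mh_pos h3 hZ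
  obtain ⟨p, hp⟩ : ∃ p, Fintype.card F = p + 1 := ⟨Fintype.card F - 1, by omega⟩
  by_cases h2 : 2 ≤ X.mh
  · left
    rw [X.total_ne h3, hp, Nat.add_sub_cancel]
    have e1 := Nat.mul_le_mul_left (p * (p + 1) * (p + 1)) h2
    have e2 := Nat.mul_le_mul_left (p * (p + 1)) h2
    have e5 : 4 * p ≤ p * p := Nat.mul_le_mul_right p (by omega)
    have e7 := Nat.zero_le (p ^ 3)
    nlinarith
  · have hm1 : X.mh = 1 := by omega
    have h := X.finrank_one h3 hq hm1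
    rcases Nat.lt_or_ge (finrank ℂ ↥(X.K 0 0 0 0)) 2 with hf | hf
    · exact Or.inr ⟨hm1, h, by omega⟩
    · left; omega

end Ctx

end Cfsg.Agent.Lib.G2Deg41
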