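import Cfsg.Agent.Lib.G2Deg41.Coef
import Cfsg.Agent.Lib.Chev.PoincareG2
import Cfsg.Agent.Lib.Chev.TitsSystem
import Cfsg.Agent.Lib.Chars.Completeness

/-!
The twelve Bruhat cells of G₂ and the sum of the squared coefficients over the group.
-/

set_option autoImplicit false

namespace Cfsg.Agent.Lib.G2Deg41

open Cfsg.Lie Cfsg.Agent.Lib.Chev Cfsg.Agent.Lib.ChevOver Module

/-- Reduced words for the Weyl group. -/
def wd : Fin 12 → List ℕ :=
  ![[], [0], [1], [0, 1], [1, 0], [0, 1, 0], [1, 0, 1], [0, 1, 0, 1], [1, 0, 1, 0], [0, 1, 0, 1, 0],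
    [1, 0, 1, 0, 1], [0, 1, 0, 1, 0, 1]]

/-- Reducedness from the front. -/
def chkFront : List ℕ → Bool
  | [] => true
  | i :: L => ((List.range 12).any fun r => Nat.ble 6 r && Nat.beq (perm C2 L r) (chevG2.simple i)) && chkFront L

/-- Reducedness from the back, on the reversed word. -/
def chkBack : List ℕ → Bool
  | [] => true
  | i :: M => Nat.ble 6 (perm C2 M.reverse (chevG2.simple i)) && chkBack M

theorem wd_ok : ∀ j : Fin 12, (wd j).all (fun i => Nat.blt i 2) = true ∧ chkFront (wd j) = true ∧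
    chkBack (wd j).reverse = true := by decide +kernel

theorem isWord_wd (j : Fin 12) : IsWord chevG2 (wd j) := fun i hi => by
  have := List.all_eq_true.1 (wd_ok j).1 i hi
  show i < 2
  simpa [Nat.blt_eq] using this

/-- The images of all roots under a word. -/
def permList (L : List ℕ) : List ℕ := (List.range 12).map (perm C2 L)

theorem wd_inj : ∀ i j : Fin 12, permList (wd i) = permList (wd j) → i = j := by decide +kernel

theorem wd_closed : ∀ (i : Fin 2) (j : Fin 12), ∃ j' : Fin 12, permList (i.val :: wd j) = permList (wd j') := by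
  decide +kernel

/-- The number of inversions. -/
def wdLen : Fin 12 → ℕ := ![0, 1, 1, 2, 2, 3, 3, 4, 4, 5, 5, 6]

theorem wdLen_eq : ∀ j : Fin 12,
    (Finset.univ.filter fun r : Fin chevG2.nroots =>
      chevG2.nroots / 2 ≤ r.val ∧ perm C2 (wd j) r.val < chevG2.nroots / 2).card = wdLen j := by
  decide +kernel

variable (F : Type*) [Field F]

/-- The group. -/
abbrev Gr : Type _ := ↥(chevG2.group F)

theorem mem_U_of_pos {g : (Gr F)} (h : (g : GL chevG2.Idx F) ∈ chevG2.posUnipotent F) : g ∈ (data F).U := by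
  rw [rooted_G2.toChecked.posUnipotent_eq] at h
  have key : ∀ y ∈ rootGen chevG2 F (posSet chevG2), ∃ x ∈ (data F).U, ((x : (Gr F)) : GL chevG2.Idx F) = y := by
    intro y hy
    induction hy using Subgroup.closure_induction with
    | mem y hy =>
      obtain ⟨r, s, hr, e⟩ := hy
      have ev : ((xr F r s : (Gr F)) : GL chevG2.Idx F) = y := Units.ext ((coe_xg rooted_G2 r s).trans e.symm)
      refine ⟨xr F r s, ?_, ev⟩
      have h6 : 6 ≤ r := hr.1
      have h12 : r < 12 := hr.2
      interval_cases r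
      exacts [(data F).mB_U s, (data F).mA_U s, (data F).mP_U s, (data F).mS_U s, (data F).mL_U s, (data F).mZ_U s]
    | one => exact ⟨1, one_mem _, rfl⟩
    | mul a b _ _ ha hb =>
      obtain ⟨x, hx, ex⟩ := ha
      obtain ⟨y, hy, ey⟩ := hb
      exact ⟨x * y, mul_mem hx hy, by rw [Subgroup.coe_mul, ex, ey]⟩
    | inv a _ ha =>
      obtain ⟨x, hx, ex⟩ := ha
      exact ⟨x⁻¹, inv_mem hx, by rw [Subgroup.coe_inv, ex]⟩
  obtain ⟨x, hx, e⟩ := key _ h
  rwa [← Subtype.ext e]

theorem inBorel_of_mem {g : (Gr F)} (h : (g : GL chevG2.Idx F) ∈ chevG2.borelSubgroup F) : InBorel (data F) g := by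
  obtain ⟨u, hu, t, ht, e⟩ := rooted_G2.mem_borel_iff.1 h
  rw [rooted_G2.diagonalSubgroup_eq] at ht
  obtain ⟨c, rfl⟩ := ht
  refine ⟨⟨u, rooted_G2.borel_le_group (Subgroup.mem_sup_left hu)⟩, mem_U_of_pos F hu,
    c 0 ^ 2 / c 1, c 1 ^ 2 / c 0 ^ 3, Subtype.ext ?_⟩
  rw [Subgroup.coe_mul, e]
  congr 1
  show torusHom chevG2 F c = torusHom chevG2 F (torC F (c 0 ^ 2 / c 1) (c 1 ^ 2 / c 0 ^ 3))
  refine Units.ext ?_
  rw [coe_torusHom, coe_torusHom]
  congr 1
  funext r
  simp only [torusFun, show chevG2.rank = 2 from rfl, Finset.prod_range_succ, Finset.prod_range_zero, one_mul, torC,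
    if_true, if_neg one_ne_zero]
  congr 2 <;> refine Units.ext ?_ <;>
    · have := (c 0).ne_zero
      have := (c 1).ne_zero
      simp only [Units.val_mul, Units.val_pow_eq_pow_val, Units.val_div_eq_div_val]
      field_simp

theorem nb_inv_borel : ∃ b, InBorel (data F) b ∧ (data F).nb⁻¹ = (data F).nb * b := by
  refine ⟨((data F).nb)⁻¹ * ((data F).nb)⁻¹, inBorel_of_mem F ?_, by group⟩
  rw [← mul_inv_rev, Subgroup.coe_inv]
  exact inv_mem (Subgroup.mem_sup_right (rooted_G2.nS_sq (i := 1) (by decide)))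

theorem nb_B_nb (u : F) (hu : u ≠ 0) : ∃ b b', InBorel (data F) b ∧ InBorel (data F) b' ∧
    (data F).nb⁻¹ * (data F).B u * (data F).nb = b * (data F).nb * b' := by
  have h1 : (1 : ℕ) < chevG2.rank := by decide
  set n := nS rooted_G2.toChecked F 1 with hn
  obtain ⟨P, hP⟩ := rooted_G2.exists_subgroup_doubleCoset h1 (n := n) (coe_nS _ h1)
  have e5 : (data F).nb⁻¹ * (data F).B u * (data F).nb = xr F 5 (-u) := by
    have := nG_conj F (i := 1) (r := 5) (a := 6) (e := -1) h1 (by decide) (by decide +kernel) (by decide +kernel) (-u)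
    rw [Int.cast_neg, Int.cast_one, neg_one_mul, neg_neg] at this
    show (nG F 1 h1)⁻¹ * xr F 6 u * nG F 1 h1 = _
    rw [mul_assoc, ← this, inv_mul_cancel_left]
  have hmem : ((xr F 5 (-u) : (Gr F)) : GL chevG2.Idx F) ∈ P := by
    have hn' : n ∈ P := by
      rw [← SetLike.mem_coe, hP]
      exact Or.inr (DoubleCoset.mem_doubleCoset.2 ⟨1, one_mem _, 1, one_mem _, by simp⟩)
    have hB : ((xr F 6 u : (Gr F)) : GL chevG2.Idx F) ∈ P := by
      rw [← SetLike.mem_coe, hP]
      exact Or.inl (Subgroup.mem_sup_left (xg_mem_pos rooted_G2 (r := 6) (by decide) (by decide) u))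
    rw [← e5]
    exact mul_mem (mul_mem (inv_mem hn') hB) hn'
  rw [← SetLike.mem_coe, hP] at hmem
  rcases hmem with hm | hm
  · exfalso
    refine hu (neg_eq_zero.1 (xg_injective rooted_G2 (show (5 : ℕ) < chevG2.nroots by decide) ?_))
    rw [xg_zero]
    refine Subgroup.mem_bot.1 (rooted_G2.borel_inf_negUnipotent.le (Subgroup.mem_inf.2 ⟨hm, ?_⟩))
    rw [xg_eq rooted_G2 (show (5 : ℕ) < chevG2.nroots by decide)]
    exact rooted_G2.toChecked.xGL_mem_neg _ (by decide) (-u)
  · obtain ⟨p, hp, p', hp', e⟩ := DoubleCoset.mem_doubleCoset.1 hm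
    exact ⟨⟨p, rooted_G2.borel_le_group hp⟩, ⟨p', rooted_G2.borel_le_group hp'⟩, inBorel_of_mem F hp,
      inBorel_of_mem F hp', e5.trans (Subtype.ext e)⟩

variable [Fintype F]

theorem wd_bij : Function.Bijective fun j : Fin 12 =>
    (⟨wperm rooted_G2.toChecked (wd j), rooted_G2.toChecked.mem_weyl_of_word (isWord_wd j)⟩ :
      ↥(weyl rooted_G2.toChecked (Finset.range chevG2.rank))) := by
  have h := rooted_G2.toChecked
  constructor
  · intro i j e
    refine wd_inj i j (List.map_congr_left fun r hr => ?_)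
    exact (h.wperm_eq_iff (isWord_wd i) (isWord_wd j)).1 (congrArg Subtype.val e) r (List.mem_range.1 hr)
  · rintro ⟨w, hw⟩
    obtain ⟨L, hL, rfl⟩ := h.exists_word_of_weyl hw
    have key : ∀ L : List ℕ, IsWord chevG2 L → ∃ j, wperm h (wd j) = wperm h L := by
      intro L
      induction L with
      | nil => exact fun _ => ⟨0, rfl⟩
      | cons i L ih =>
        intro hL
        obtain ⟨j, hj⟩ := ih hL.cons.2
        obtain ⟨j', hj'⟩ := wd_closed ⟨i, hL.cons.1⟩ j
        refine ⟨j', ?_⟩
        rw [wperm_cons h i L, ← hj, ← wperm_cons h i (wd j), eq_comm, h.wperm_eq_iff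
          (fun a ha => by
            rcases List.mem_cons.1 ha with rfl | ha
            · exact hL.cons.1
            · exact isWord_wd j a ha) (isWord_wd j')]
        intro r hr
        exact List.map_inj_left.1 hj' r (List.mem_range.2 hr)
    obtain ⟨j, hj⟩ := key L hL
    exact ⟨j, Subtype.ext hj⟩

/-- The representative of a word. -/
noncomputable def nW (L : List ℕ) (hL : IsWord chevG2 L) : (Gr F) :=
  ⟨nProd rooted_G2.toChecked F L, rooted_G2.monomial_le_group (rooted_G2.nProd_mem_monomial hL)⟩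

/-- A function invariant on the double cosets is summed cell by cell. -/
theorem sum_cells [Fintype (Gr F)] (Φ : (Gr F) → ℂ)
    (hΦ : ∀ (b n u : (Gr F)), InBorel (data F) b → u ∈ (data F).U → Φ (b * n * u) = Φ n) :
    ∑ g, Φ g = (Nat.card ↥(chevG2.borelSubgroup F) : ℂ) *
      ∑ j, (Fintype.card F : ℂ) ^ wdLen j * Φ (nW F (wd j) (isWord_wd j)) := by
  classical
  have hh := rooted_G2
  have h := hh.toChecked
  have hposU : ∀ j, rootGen chevG2 F (invSet chevG2 C2 (wd j)) ≤ chevG2.posUnipotent F := fun j => by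
    rw [h.posUnipotent_eq]; exact rootGen_mono (h.invSet_subset _)
  let T := Σ j : Fin 12, ↥(chevG2.borelSubgroup F) × ↥(rootGen chevG2 F (invSet chevG2 C2 (wd j)))
  let f : T → (Gr F) := fun x => (⟨x.2.1.1, hh.borel_le_group x.2.1.2⟩ : (Gr F)) * nW F (wd x.1) (isWord_wd x.1) *
    ⟨x.2.2.1, hh.borel_le_group (Subgroup.mem_sup_left (hposU x.1 x.2.2.2))⟩
  have hf : Function.Bijective f := by
    constructor
    · rintro ⟨w, b, u⟩ ⟨w', b', u'⟩ e
      have e' : (b : GL chevG2.Idx F) * nProd hh.toChecked F (wd w) * u = b' * nProd hh.toChecked F (wd w') * u' :=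
        congrArg Subtype.val e
      have hd := hh.diag_mem_of_mem_doubleCoset (hh.nProd_mem_monomial (isWord_wd w))
        (hh.nProd_mem_monomial (isWord_wd w')) (hh.canonical_mem (isWord_wd w) b.2 u.2)
        (e' ▸ hh.canonical_mem (isWord_wd w') b'.2 u'.2)
      have ew : w = w' := (wd_bij).1 (Subtype.ext (hh.wperm_eq_of_diag (isWord_wd w) (isWord_wd w') hd).symm)
      subst ew
      obtain ⟨eb, eu⟩ := hh.canonical_unique (isWord_wd w) b.2 b'.2 u.2 u'.2 e'
      rw [Subtype.ext eb, Subtype.ext eu]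
    · rintro ⟨g, hg⟩
      obtain ⟨L', hL', hm⟩ := hh.exists_doubleCoset hg
      obtain ⟨w, hw⟩ := (wd_bij).2 ⟨_, h.mem_weyl_of_word hL'⟩
      have hd := hh.diag_of_wperm_eq (F := F) (isWord_wd w) hL' (congrArg Subtype.val hw)
      have hm' : g ∈ DoubleCoset.doubleCoset (nProd hh.toChecked F (wd w))
          (chevG2.borelSubgroup F : Set (GL chevG2.Idx F)) (chevG2.borelSubgroup F) := by
        obtain ⟨b, hb, c, hc, e⟩ := DoubleCoset.mem_doubleCoset.1 hm
        refine DoubleCoset.mem_doubleCoset.2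
          ⟨b, hb, (nProd hh.toChecked F (wd w))⁻¹ * nProd hh.toChecked F L' * c,
            mul_mem (Subgroup.mem_sup_right hd) hc, ?_⟩
        rw [e]; group
      obtain ⟨b, hb, u, hu, e⟩ := hh.exists_mul_of_mem_doubleCoset (isWord_wd w) hm'
      exact ⟨⟨w, ⟨b, hb⟩, ⟨u, hu⟩⟩, Subtype.ext e.symm⟩
  haveI : ∀ j, Fintype ↥(rootGen chevG2 F (invSet chevG2 C2 (wd j))) := fun j => Fintype.ofFinite _
  haveI : Fintype ↥(chevG2.borelSubgroup F) := Fintype.ofFinite _
  rw [← Fintype.sum_bijective f hf (fun x => Φ (f x)) Φ (fun _ => rfl), Fintype.sum_sigma, Finset.mul_sum]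
  refine Finset.sum_congr rfl fun j _ => ?_
  rw [Finset.sum_congr rfl (g := fun _ => Φ (nW F (wd j) (isWord_wd j))) fun x _ => hΦ _ _ _
    (inBorel_of_mem F x.1.2) (mem_U_of_pos F (hposU j x.2.2)), Finset.sum_const, Finset.card_univ,
    Fintype.card_prod, nsmul_eq_mul, ← Nat.card_eq_fintype_card,
    ← Nat.card_eq_fintype_card (α := ↥(rootGen chevG2 F (invSet chevG2 C2 (wd j)))),
    hh.card_rootGen (h.invSet_subset _) (h.closedSet_invSet (isWord_wd j)), ← wdLen_eq j]
  have hcard : Nat.card ↥(invSet chevG2 C2 (wd j)) =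
      (Finset.univ.filter fun r : Fin chevG2.nroots =>
      chevG2.nroots / 2 ≤ r.val ∧ perm C2 (wd j) r.val < chevG2.nroots / 2).card := by
    rw [hh.card_invSet (isWord_wd j)]
    congr 1
    ext r
    simp only [invs, Finset.mem_filter, Finset.mem_univ, true_and, h.wperm_val (isWord_wd j)]
  rw [hcard]
  push_cast
  ring

variable {V : Type*} [AddCommGroup V] [Module ℂ V] [Finite (Gr F)]

/-- The coefficient on a cell. -/
theorem phi_word {X : Ctx F (Gr F) V} (L : LineData X) (hXD : X.D = data F) (hna : X.π X.D.na L.f = L.f) :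
    ∀ (W : List ℕ) (hW : IsWord chevG2 W), (chkFront W = true → L.phi (nW F W hW) = L.phi X.D.nb ^ W.count 1) ∧
      (∀ hW' : IsWord chevG2 W.reverse,
        chkBack W = true → L.phi (nW F W.reverse hW')⁻¹ = L.phi X.D.nb⁻¹ ^ W.count 1) := by
  intro W
  induction W with
  | nil =>
    intro hW
    have h1 : L.phi (1 : (Gr F)) = 1 := by rw [LineData.phi, act_one, L.eps_f]
    refine ⟨fun _ => ?_, fun hW' _ => ?_⟩
    · rw [show nW F [] hW = 1 from Subtype.ext (by simp [nW, nProd]), h1]; simp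
    · rw [show nW F ([] : List ℕ).reverse hW' = 1 from Subtype.ext (by simp [nW, nProd]), inv_one, h1]; simp
  | cons i W ih =>
    intro hW
    obtain ⟨hi, hW0⟩ : i < chevG2.rank ∧ IsWord chevG2 W := hW.cons
    have h := rooted_G2.toChecked
    have hs : chevG2.simple i < chevG2.nroots := h.simple_lt hi
    have hfixpos : ∀ (r : ℕ) (s : F), 6 ≤ r → r < chevG2.nroots → X.π (xr F r s) L.f = L.f := fun r s h6 hr =>
      L.fix _ (by rw [hXD]; exact mem_U_of_pos F (xg_mem_pos rooted_G2 hr h6 s))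
    have hi2 : i = 0 ∨ i = 1 := by have : i < 2 := hi; omega
    refine ⟨fun hc => ?_, fun hW' hc => ?_⟩
    · simp only [chkFront, Bool.and_eq_true, List.any_eq_true, List.mem_range, Nat.ble_eq, natBeq_eq,
        decide_eq_true_eq] at hc
      obtain ⟨⟨r, hr, h6, hperm⟩, hc'⟩ := hc
      have hv : ∀ t, X.π (xr F (chevG2.simple i) t) (X.π (nW F W hW0) L.f) = X.π (nW F W hW0) L.f := fun t => by
        have e : xr F (chevG2.simple i) t * nW F W hW0 = nW F W hW0 * xr F r ((weta C2 W r : F) * t) := by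
          refine Subtype.ext (Units.ext ?_)
          simp only [nW, xr, Subgroup.coe_mul, Units.val_mul, coe_xg]
          rw [h.nProd_mul_x hW0 hr, hperm]
          rcases weta_cases (C := C2) W r with w | w <;> simp [w]
        rw [← act_mul, e, act_mul, hfixpos r _ h6 hr]
      have e1 : nW F (i :: W) hW = nG F i hi * nW F W hW0 := Subtype.ext (nProd_cons _ _ _)
      have ih' := (ih hW0).1 hc'
      rw [LineData.phi, e1, act_mul]
      rcases hi2 with rfl | rfl
      · rw [show nG F 0 hi = X.D.na by rw [hXD]; rfl, L.step_na (fun t => by rw [hXD]; exact hv t) hna]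
        exact ih'.trans (by simp)
      · rw [show nG F 1 hi = X.D.nb by rw [hXD]; rfl, L.step_nb (fun t => by rw [hXD]; exact hv t)]
        rw [show L.eps (X.π (nW F W hW0) L.f) = L.phi X.D.nb ^ W.count 1 from ih']
        simp [pow_succ]
    · simp only [chkBack, Bool.and_eq_true, Nat.ble_eq] at hc
      obtain ⟨h6, hc'⟩ := hc
      have hWr : IsWord chevG2 W.reverse := hW0.reverse
      have hp : perm C2 W.reverse (chevG2.simple i) < chevG2.nroots := h.perm_lt hWr hs
      have hv : ∀ t, X.π (xr F (chevG2.simple i) t) (X.π (nW F W.reverse hWr)⁻¹ L.f) =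
          X.π (nW F W.reverse hWr)⁻¹ L.f := fun t => by
        have e : nW F W.reverse hWr * xr F (chevG2.simple i) t =
            xr F (perm C2 W.reverse (chevG2.simple i)) ((weta C2 W.reverse (chevG2.simple i) : F) * t) *
              nW F W.reverse hWr := by
          refine Subtype.ext (Units.ext ?_)
          simp only [nW, xr, Subgroup.coe_mul, Units.val_mul, coe_xg]
          exact h.nProd_mul_x hWr hs t
        refine act_injective X.π (nW F W.reverse hWr) ?_
        rw [← act_mul, e, act_mul, ← act_mul X.π _ (nW F W.reverse hWr)⁻¹, mul_inv_cancel, act_one,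
          hfixpos _ _ h6 hp]
      have e1 : nW F (i :: W).reverse hW' = nW F W.reverse hWr * nG F i hi := by
        refine Subtype.ext ?_
        simp [nW, nG, nProd]
      have ih' := (ih hW0).2 hWr hc'
      rw [LineData.phi, e1, mul_inv_rev, act_mul]
      rcases hi2 with rfl | rfl
      · rw [show nG F 0 hi = X.D.na by rw [hXD]; rfl, L.step_na_inv (fun t => by rw [hXD]; exact hv t) hna]
        exact ih'.trans (by simp)
      · rw [show nG F 1 hi = X.D.nb by rw [hXD]; rfl, L.step_nb_inv (fun t => by rw [hXD]; exact hv t)]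
        rw [show L.eps (X.π (nW F W.reverse hWr)⁻¹ L.f) = L.phi X.D.nb⁻¹ ^ W.count 1 from ih']
        simp [pow_succ]

end Cfsg.Agent.Lib.G2Deg41
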