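import Cfsg.Agent.Lib.G2Deg41.Line

/-!
The matrix coefficient of the fixed line: recursion along the fundamental Weyl elements and its value at
the long one.
-/

set_option autoImplicit false

namespace Cfsg.Agent.Lib.G2Deg41

open Module

variable {F G V : Type*} [Field F] [Group G] [Finite G] [AddCommGroup V] [Module ℂ V]

namespace LineData

variable {X : Ctx F G V} (L : LineData X)

/-- The coefficient. -/
noncomputable def phi (g : G) : ℂ := L.eps (X.π g L.f)

theorem f_ne : L.f ≠ 0 := fun e => one_ne_zero (α := ℂ) (by rw [← L.eps_f, e, map_zero])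

theorem eps_U {u : G} (hu : u ∈ X.D.U) (v : V) : L.eps (X.π u v) = L.eps v := by
  refine smul_left_injective ℂ L.f_ne ?_
  show L.eps (X.π u v) • L.f = L.eps v • L.f
  rw [← L.avg_eq, ← L.avg_eq, ← Module.End.mul_apply, avgG_act X.π hu]

theorem eps_tor (a b : Fˣ) (v : V) : L.eps (X.π (X.D.tor a b) v) = L.chi a b * L.eps v := by
  refine smul_left_injective ℂ L.f_ne ?_
  show L.eps (X.π (X.D.tor a b) v) • L.f = (L.chi a b * L.eps v) • L.f
  rw [← L.avg_eq, ← Module.End.mul_apply, ← (avgG_commute X.π (X.D.tor_conj_U a b)).eq, Module.End.mul_apply,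
    L.avg_eq, map_smul, L.tor_f, smul_smul, mul_comm]

theorem eps_of_fixed {v : V} (h : ∀ u ∈ X.D.U, X.π u v = v) : v = L.eps v • L.f := by
  rw [← L.avg_eq, avgG_fixed X.π h]

/-- The coefficient is multiplicative along a normalising element. -/
theorem step {R : Subgroup G} {x : F → G} (hR : R ≤ X.D.U) (hU : X.D.U ≤ Subgroup.closure (Set.range x ∪ R))
    (hx : ∀ t, ∀ r ∈ R, x t * r * (x t)⁻¹ ∈ R) {g : G} (hg : ∀ r ∈ R, g * r * g⁻¹ ∈ R) {v : V}
    (hv : ∀ t, X.π (x t) v = v) : L.eps (X.π g v) = L.eps v * L.eps (X.π g L.f) := by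
  have hfix : avgG X.π R v = L.eps v • L.f := by
    have h : ∀ u ∈ X.D.U, X.π u (avgG X.π R v) = avgG X.π R v := fun u hu =>
      fixed_closure X.π (s := Set.range x ∪ R) (fun y hy => by
        rcases hy with ⟨t, rfl⟩ | hy
        · rw [← Module.End.mul_apply, (avgG_commute X.π (hx t)).eq, Module.End.mul_apply, hv]
        · rw [← Module.End.mul_apply, act_avgG X.π hy]) u (hU hu)
    rw [← avgG_fixed X.π h, ← Module.End.mul_apply, avgG_mul_le X.π hR, L.avg_eq]
  have e : avgG X.π X.D.U (X.π g v) = avgG X.π X.D.U (X.π g (avgG X.π R v)) := by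
    conv_rhs => rw [← Module.End.mul_apply (X.π g), (avgG_commute X.π hg).eq, Module.End.mul_apply,
      ← Module.End.mul_apply (avgG X.π X.D.U), avgG_mul_le X.π hR]
  rw [L.avg_eq, L.avg_eq] at e
  rw [smul_left_injective ℂ L.f_ne e, hfix, map_smul, map_smul, smul_eq_mul]

theorem U_le_A : X.D.U ≤ Subgroup.closure (Set.range X.D.A ∪ X.D.RA) := by
  refine (Subgroup.closure_le _).2 fun g ⟨t, h⟩ => Subgroup.subset_closure ?_
  simp only [List.mem_cons, List.not_mem_nil, or_false] at h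
  rcases h with rfl | rfl | rfl | rfl | rfl | rfl
  exacts [Or.inl ⟨t, rfl⟩, Or.inr (X.D.mB_RA t), Or.inr (X.D.mP_RA t), Or.inr (X.D.mS_RA t), Or.inr (X.D.mL_RA t),
    Or.inr (X.D.mZ_RA t)]

theorem U_le_B : X.D.U ≤ Subgroup.closure (Set.range X.D.B ∪ X.D.RB) := by
  refine (Subgroup.closure_le _).2 fun g ⟨t, h⟩ => Subgroup.subset_closure ?_
  simp only [List.mem_cons, List.not_mem_nil, or_false] at h
  rcases h with rfl | rfl | rfl | rfl | rfl | rfl
  exacts [Or.inr (X.D.mA_RB t), Or.inl ⟨t, rfl⟩, Or.inr (X.D.mP_RB t), Or.inr (X.D.mS_RB t), Or.inr (X.D.mL_RB t),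
    Or.inr (X.D.mZ_RB t)]

theorem step_na {v : V} (hv : ∀ t, X.π (X.D.A t) v = v) (hna : X.π X.D.na L.f = L.f) :
    L.eps (X.π X.D.na v) = L.eps v := by
  rw [L.step X.D.RA_le (U_le_A) (fun t => X.D.A_conj_RA t) X.D.na_conj_RA hv, hna, L.eps_f, mul_one]

theorem step_na_inv {v : V} (hv : ∀ t, X.π (X.D.A t) v = v) (hna : X.π X.D.na L.f = L.f) :
    L.eps (X.π X.D.na⁻¹ v) = L.eps v := by
  have h : X.π X.D.na⁻¹ L.f = L.f := by conv_lhs => rw [← hna, ← act_mul, inv_mul_cancel, act_one]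
  rw [L.step X.D.RA_le (U_le_A) (fun t => X.D.A_conj_RA t) (conj_inv_mem X.D.na_conj_RA) hv, h, L.eps_f, mul_one]

theorem step_nb {v : V} (hv : ∀ t, X.π (X.D.B t) v = v) :
    L.eps (X.π X.D.nb v) = L.eps v * L.phi X.D.nb :=
  L.step X.D.RB_le U_le_B (fun t => X.D.B_conj_RB t) X.D.nb_conj_RB hv

theorem step_nb_inv {v : V} (hv : ∀ t, X.π (X.D.B t) v = v) :
    L.eps (X.π X.D.nb⁻¹ v) = L.eps v * L.phi X.D.nb⁻¹ :=
  L.step X.D.RB_le U_le_B (fun t => X.D.B_conj_RB t) (conj_inv_mem X.D.nb_conj_RB) hv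

theorem chi_mul (a b a' b' : Fˣ) : L.chi (a * a') (b * b') = L.chi a b * L.chi a' b' := by
  have h : X.π (X.D.tor a b * X.D.tor a' b') L.f = X.π (X.D.tor (a * a') (b * b')) L.f := by rw [X.D.tor_mul]
  rw [act_mul, L.tor_f, map_smul, L.tor_f, L.tor_f, smul_smul, mul_comm] at h
  exact (smul_left_injective ℂ L.f_ne h).symm

theorem chi_ne (a b : Fˣ) : L.chi a b ≠ 0 := fun e => L.f_ne (act_injective X.π (X.D.tor a b) (by
  rw [L.tor_f, e, zero_smul, map_zero]))

theorem chi_one : L.chi 1 1 = 1 := by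
  have h := L.chi_mul 1 1 1 1
  rw [one_mul] at h
  exact mul_eq_left₀ (L.chi_ne 1 1) |>.1 h.symm

/-- The product of the coefficient and its inverse is unchanged on a double coset of the Borel subgroup. -/
theorem phi_prod (u u' : G) (hu : u ∈ X.D.U) (hu' : u' ∈ X.D.U) (a b : Fˣ) (n : G) :
    L.phi (u * X.D.tor a b * n * u') * L.phi (u * X.D.tor a b * n * u')⁻¹ = L.phi n * L.phi n⁻¹ := by
  have ht : (X.D.tor a b)⁻¹ = X.D.tor a⁻¹ b⁻¹ := by
    refine inv_eq_of_mul_eq_one_right ?_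
    have h11 := X.D.tor_mul 1 1 1 1
    rw [one_mul] at h11
    rw [X.D.tor_mul, mul_inv_cancel, mul_inv_cancel, mul_eq_left.1 h11]
  have e1 : L.phi (u * X.D.tor a b * n * u') = L.chi a b * L.phi n := by
    rw [phi, act_mul, L.fix u' hu', act_mul, act_mul, L.eps_U hu, L.eps_tor, phi]
  have e2 : L.phi (u * X.D.tor a b * n * u')⁻¹ = L.chi a⁻¹ b⁻¹ * L.phi n⁻¹ := by
    rw [phi, mul_inv_rev, mul_inv_rev, mul_inv_rev, ht, act_mul, L.eps_U (inv_mem hu'), act_mul, act_mul,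
      L.fix _ (inv_mem hu), L.tor_f, map_smul, map_smul, smul_eq_mul, phi]
  rw [e1, e2]
  have : L.chi a b * L.chi a⁻¹ b⁻¹ = 1 := by rw [← L.chi_mul, mul_inv_cancel, mul_inv_cancel, L.chi_one]
  linear_combination (L.phi n * L.phi n⁻¹) * this

variable [Fintype F]

/-- The value at the long fundamental element. -/
theorem gamma_cases (hna : X.π X.D.na L.f = L.f)
    (hB : ∀ u : F, u ≠ 0 → ∃ b b', InBorel X.D b ∧ InBorel X.D b' ∧ X.D.nb⁻¹ * X.D.B u * X.D.nb = b * X.D.nb * b')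
    (hinv : ∃ b, InBorel X.D b ∧ X.D.nb⁻¹ = X.D.nb * b) :
    (Fintype.card F : ℂ) * (L.phi X.D.nb * L.phi X.D.nb⁻¹) = 0 ∨
      (Fintype.card F : ℂ) * (L.phi X.D.nb * L.phi X.D.nb⁻¹) = (Fintype.card F : ℂ) ∨
      (Fintype.card F : ℂ) * ((Fintype.card F : ℂ) * (L.phi X.D.nb * L.phi X.D.nb⁻¹)) = 1 := by
  classical
  set q : ℂ := (Fintype.card F : ℂ) with hq
  set γ := L.phi X.D.nb with hγ
  by_cases h0 : γ = 0
  · left; rw [h0, zero_mul, mul_zero]
  right
  set T : V := ∑ u : F, X.π (X.D.B u) (X.π X.D.nb L.f) with hT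
  have hTfix : ∀ g ∈ X.D.U, X.π g T = T := by
    have key : ∀ g ∈ Set.range X.D.B ∪ (X.D.RB : Set G), X.π g T = T := by
      rintro g (⟨t, rfl⟩ | hg)
      · rw [hT, map_sum]
        exact Fintype.sum_equiv (Equiv.addLeft t) _ _ fun u => by rw [← act_mul, ← X.D.addB]; rfl
      · rw [hT, map_sum]
        refine Finset.sum_congr rfl fun u _ => ?_
        have h1 : (X.D.B u)⁻¹ * g * X.D.B u ∈ X.D.RB := by
          have := conj_inv_mem (X.D.B_conj_RB u) g hg
          rwa [inv_inv] at this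
        have h2 : X.D.nb⁻¹ * ((X.D.B u)⁻¹ * g * X.D.B u) * X.D.nb ∈ X.D.RB := by
          have := conj_inv_mem X.D.nb_conj_RB _ h1
          rwa [inv_inv] at this
        rw [← act_mul, show g * X.D.B u = X.D.B u * ((X.D.B u)⁻¹ * g * X.D.B u) by group, act_mul,
          ← act_mul X.π _ X.D.nb,
          show (X.D.B u)⁻¹ * g * X.D.B u * X.D.nb =
            X.D.nb * (X.D.nb⁻¹ * ((X.D.B u)⁻¹ * g * X.D.B u) * X.D.nb) by group,
          act_mul, L.fix _ (X.D.RB_le h2)]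
    exact fun g hg => fixed_closure X.π key g (U_le_B hg)
  have hepsT : L.eps T = q * γ := by
    rw [hT, map_sum, Finset.sum_congr rfl (g := fun _ => γ) fun u _ => by rw [L.eps_U (X.D.mB_U u)]; rfl,
      Finset.sum_const, Finset.card_univ, nsmul_eq_mul]
  have hTf : T = (q * γ) • L.f := by rw [← hepsT]; exact L.eps_of_fixed hTfix
  have hqγ : q * γ ≠ 0 := mul_ne_zero (Nat.cast_ne_zero.2 Fintype.card_ne_zero) h0
  -- the character of the torus is invariant under both reflections, hence trivial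
  have ca : ∀ a b, L.chi a b = L.chi a⁻¹ (a ^ 3 * b) := fun a b => by
    have h : X.π (X.D.na * X.D.tor a b) L.f = X.π (X.D.tor a⁻¹ (a ^ 3 * b) * X.D.na) L.f := by rw [X.D.na_tor]
    rw [act_mul, L.tor_f, map_smul, hna, act_mul, hna, L.tor_f] at h
    exact smul_left_injective ℂ L.f_ne h
  have cb : ∀ a b, L.chi a b = L.chi (a * b) b⁻¹ := fun a b => by
    have h : X.π (X.D.tor a b) T = L.chi (a * b) b⁻¹ • T := by
      rw [hT, map_sum, Finset.smul_sum]
      refine Fintype.sum_equiv (Equiv.mulLeft₀ (b : F) b.ne_zero) _ _ fun u => ?_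
      rw [← act_mul, X.D.torB, act_mul, ← act_mul X.π _ X.D.nb]
      have e : X.D.tor a b * X.D.nb = X.D.nb * X.D.tor (a * b) b⁻¹ := by
        rw [X.D.nb_tor (a * b) b⁻¹, mul_inv_cancel_right, inv_inv]
      rw [e, act_mul, L.tor_f, map_smul, map_smul]
      rfl
    rw [hTf, map_smul, L.tor_f, smul_smul, smul_smul] at h
    exact mul_left_cancel₀ hqγ ((smul_left_injective ℂ L.f_ne h).trans (mul_comm _ _))
  have chi1 : ∀ a b, L.chi a b = 1 := fun a b => by
    have hinv' : ∀ x y, L.chi x y * L.chi x⁻¹ y⁻¹ = 1 := fun x y => by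
      rw [← L.chi_mul, mul_inv_cancel, mul_inv_cancel, L.chi_one]
    have h1 : ∀ x : Fˣ, L.chi (x ^ 2) (x ^ 3)⁻¹ = 1 := fun x => by
      rw [← hinv' x⁻¹ (x ^ 3), inv_inv]
      conv_rhs => arg 1; rw [← mul_one (x ^ 3), ← ca x 1]
      rw [← L.chi_mul, one_mul, ← pow_two]
    have h2 : ∀ y : Fˣ, L.chi y⁻¹ (y ^ 2) = 1 := fun y => by
      rw [← hinv' y y⁻¹, inv_inv]
      conv_rhs => arg 1; rw [show L.chi y y⁻¹ = L.chi 1 y by rw [cb 1 y, one_mul]]
      rw [← L.chi_mul, one_mul, ← pow_two]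
    have h3 := L.chi_mul ((a ^ 2 * b) ^ 2) ((a ^ 2 * b) ^ 3)⁻¹ (a ^ 3 * b ^ 2)⁻¹ ((a ^ 3 * b ^ 2) ^ 2)
    rw [h1, h2, one_mul] at h3
    rw [← h3]
    congr 1 <;> refine Units.ext ?_ <;>
      · have := a.ne_zero
        have := b.ne_zero
        simp only [Units.val_mul, Units.val_pow_eq_pow_val, Units.val_inv_eq_inv_val]
        field_simp
  have hbor : ∀ {c : G}, InBorel X.D c → ∀ v, L.eps (X.π c v) = L.eps v := fun ⟨u, hu, a, b, e⟩ v => by
    rw [e, act_mul, L.eps_U hu, L.eps_tor, chi1, one_mul]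
  have hborf : ∀ {c : G}, InBorel X.D c → X.π c L.f = L.f := fun ⟨u, hu, a, b, e⟩ => by
    rw [e, act_mul, L.tor_f, chi1, one_smul, L.fix u hu]
  have hγ' : L.phi X.D.nb⁻¹ = γ := by
    obtain ⟨b, hb, e⟩ := hinv
    rw [phi, e, act_mul, hborf hb]
    rfl
  have hquad : q * γ * γ = 1 + (q - 1) * γ := by
    have h := congrArg (fun v => L.eps (X.π X.D.nb⁻¹ v)) hTf
    simp only [map_smul, smul_eq_mul] at h
    rw [hT, map_sum, map_sum, sum_zero_const (F := F) _ γ fun u hu => ?_] at h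
    · rw [X.D.addB.map_zero, act_one, ← act_mul, inv_mul_cancel, act_one, L.eps_f, nsmul_eq_mul,
        Nat.cast_sub Fintype.card_pos, Nat.cast_one] at h
      rw [show L.eps (X.π X.D.nb⁻¹ L.f) = γ from hγ'] at h
      exact h.symm
    · obtain ⟨b, b', hb, hb', e⟩ := hB u hu
      rw [← act_mul, ← act_mul, e, act_mul, act_mul, hborf hb', hbor hb]
      rfl
  rw [hγ']
  have : (γ - 1) * (q * γ + 1) = 0 := by linear_combination hquad
  rcases mul_eq_zero.1 this with e | e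
  · left; rw [sub_eq_zero.1 e, mul_one, mul_one]
  · right; linear_combination (q * γ - 1) * e

end LineData

end Cfsg.Agent.Lib.G2Deg41
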