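import Cfsg.Agent.Lib.G2Deg41.Setup

/-!
A representation of a group with the G₂ relations, and the effect of the named elements on stalks.
-/

set_option autoImplicit false

namespace Cfsg.Agent.Lib.G2Deg41

open Module

variable {F G V : Type*} [Field F] [Group G] [AddCommGroup V] [Module ℂ V]

/-- A representation with a character of the field. -/
structure Ctx (F G V : Type*) [Field F] [Group G] [AddCommGroup V] [Module ℂ V] where
  D : Data F G
  π : G →* Module.End ℂ V
  ψ : AddChar F ℂ
  hψ : ψ ≠ 1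

namespace Ctx

variable (X : Ctx F G V)

/-- The eigenspace. -/
abbrev E (x : F → G) (c : F) : Submodule ℂ V := eig X.π X.ψ x c

theorem comap_E {x y : F → G} {g : G} {κ : F} (hκ : κ ≠ 0) (h : ∀ t, g * x t = y (κ * t) * g) (d : F) :
    (X.E y d).comap (X.π g) = X.E x (κ * d) :=
  Submodule.ext fun v => act_mem_eig X.π X.ψ hκ h d v

theorem comap_one {x y : F → G} {g : G} (h : ∀ t, g * x t = y t * g) (d : F) :
    (X.E y d).comap (X.π g) = X.E x d := by
  rw [X.comap_E (κ := 1) one_ne_zero (fun t => by rw [one_mul]; exact h t), one_mul]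

theorem comap_neg {x y : F → G} {g : G} (h : ∀ t, g * x t = y (-t) * g) (d : F) :
    (X.E y d).comap (X.π g) = X.E x (-d) := by
  rw [X.comap_E (κ := -1) (neg_ne_zero.2 one_ne_zero) (fun t => by rw [neg_one_mul]; exact h t), neg_one_mul]

/-- A root element with a scalar tail shifts an eigenvalue. -/
theorem shift_mem {y : F → G} {g : G} {tail : F → G} (h : ∀ u, y u * g = g * y u * tail u) {c e : F} {v : V}
    (hv : v ∈ X.E y c) (ht : ∀ u, X.π (tail u) v = X.ψ (e * u) • v) : X.π g v ∈ X.E y (c + e) := fun u => by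
  rw [← act_mul, h, act_mul, ht, map_smul, act_mul, hv, map_smul, smul_smul, ← AddChar.map_add_eq_mul]
  congr 2; ring

theorem keep_mem {y : F → G} {g : G} {tail : F → G} (h : ∀ u, y u * g = g * y u * tail u) {c : F} {v : V}
    (hv : v ∈ X.E y c) (ht : ∀ u, X.π (tail u) v = v) : X.π g v ∈ X.E y c := by
  simpa using X.shift_mem (e := 0) h hv (fun u => by simp [ht u])

theorem comm_mem {y : F → G} {g : G} (h : ∀ u, Commute g (y u)) {c : F} {v : V} (hv : v ∈ X.E y c) :
    X.π g v ∈ X.E y c :=
  X.keep_mem (tail := fun _ => 1) (fun u => by rw [mul_one]; exact (h u).eq.symm) hv (fun u => act_one X.π v)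

theorem act_of_mem {x : F → G} {c : F} {v : V} (hv : v ∈ X.E x c) (t : F) : X.π (x t) v = X.ψ (c * t) • v := hv t

theorem act_of_mem_zero {x : F → G} {v : V} (hv : v ∈ X.E x 0) (t : F) : X.π (x t) v = v :=
  (eig_zero X.π X.ψ).1 hv t

theorem inv_comm {x y : F → G} (h : ∀ t u, Commute (x t) (y u)) (c : F) : Inv X.π x (X.E y c) :=
  fun t _ hv => X.comm_mem (h t) hv

theorem inv_comm' {x y : F → G} (h : ∀ t u, Commute (y t) (x u)) (c : F) : Inv X.π x (X.E y c) :=
  fun t _ hv => X.comm_mem (fun u => (h u t).symm) hv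

theorem fr_congr {W W' : Submodule ℂ V} (h : W = W') : finrank ℂ ↥W = finrank ℂ ↥W' := by rw [h]

theorem finrank_comap' (g : G) (W : Submodule ℂ V) : finrank ℂ ↥(W.comap (X.π g)) = finrank ℂ ↥W :=
  finrank_comap X.π g W

end Ctx

theorem sum_zero_const {F M : Type*} [Field F] [Fintype F] [AddCommMonoid M] (f : F → M) (a : M)
    (h : ∀ c : F, c ≠ 0 → f c = a) : ∑ c, f c = f 0 + (Fintype.card F - 1) • a := by
  classical
  rw [← Finset.add_sum_erase Finset.univ f (Finset.mem_univ 0),
    Finset.sum_congr rfl (g := fun _ => a) (fun c hc => h c (Finset.ne_of_mem_erase hc)), Finset.sum_const,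
    Finset.card_erase_of_mem (Finset.mem_univ _), Finset.card_univ]

theorem sum_const' {F : Type*} [Fintype F] (f : F → ℕ) (a : ℕ) (h : ∀ c : F, f c = a) :
    ∑ c, f c = Fintype.card F * a := by
  rw [Finset.sum_congr rfl (g := fun _ => a) (fun c _ => h c), Finset.sum_const, smul_eq_mul, Finset.card_univ]

end Cfsg.Agent.Lib.G2Deg41
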