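import Mathlib

/-!
Eigenspaces of one-parameter subgroups in a complex representation, and their dimensions.
-/

set_option autoImplicit false

namespace Cfsg.Agent.Lib.G2Deg41

open Module

variable {F G V : Type*} [Field F] [Group G] [AddCommGroup V] [Module ℂ V]

/-- A one-parameter subgroup. -/
def OnePar (x : F → G) : Prop := ∀ s t, x (s + t) = x s * x t

theorem OnePar.map_zero {x : F → G} (hx : OnePar x) : x 0 = 1 := by
  have h := hx 0 0
  rwa [add_zero, left_eq_mul] at h

theorem OnePar.map_neg {x : F → G} (hx : OnePar x) (t : F) : x (-t) = (x t)⁻¹ :=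
  eq_inv_of_mul_eq_one_left (by rw [← hx, neg_add_cancel, hx.map_zero])

variable (π : G →* Module.End ℂ V) (ψ : AddChar F ℂ)

theorem act_mul (g h : G) (v : V) : π (g * h) v = π g (π h v) := by rw [map_mul]; rfl

theorem act_one (v : V) : π 1 v = v := by rw [map_one]; rfl

theorem act_injective (g : G) : Function.Injective (π g) := fun v w e => by
  have := congrArg (π g⁻¹) e
  rwa [← act_mul, ← act_mul, inv_mul_cancel, act_one, act_one] at this

/-- The vectors on which `x` acts by the character `c`. -/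
def eig (x : F → G) (c : F) : Submodule ℂ V where
  carrier := {v | ∀ t, π (x t) v = ψ (c * t) • v}
  add_mem' h1 h2 t := by rw [map_add, h1 t, h2 t, smul_add]
  zero_mem' t := by simp
  smul_mem' a v h t := by rw [map_smul, h t, smul_comm]

theorem mem_eig {x : F → G} {c : F} {v : V} : v ∈ eig π ψ x c ↔ ∀ t, π (x t) v = ψ (c * t) • v := Iff.rfl

theorem eig_zero {x : F → G} {v : V} : v ∈ eig π ψ x 0 ↔ ∀ t, π (x t) v = v := by
  simp [mem_eig]

/-- `x` maps `W` to itself. -/
def Inv (x : F → G) (W : Submodule ℂ V) : Prop := ∀ t, ∀ v ∈ W, π (x t) v ∈ W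

theorem Inv.inf {x : F → G} {W W' : Submodule ℂ V} (h : Inv π x W) (h' : Inv π x W') : Inv π x (W ⊓ W') :=
  fun t v hv => ⟨h t v hv.1, h' t v hv.2⟩

theorem inv_eig {x y : F → G} (h : ∀ t u, y u * x t = x t * y u) (c : F) : Inv π x (eig π ψ y c) :=
  fun t v hv u => by rw [← act_mul, h, act_mul, hv, map_smul]

theorem inv_self {x : F → G} (hx : OnePar x) (c : F) : Inv π x (eig π ψ x c) :=
  inv_eig π ψ (fun t u => by rw [← hx, ← hx, add_comm]) c

/-- A normalising element transfers the eigenspaces. -/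
theorem act_mem_eig {x y : F → G} {g : G} {κ : F} (hκ : κ ≠ 0) (h : ∀ t, g * x t = y (κ * t) * g) (d : F)
    (v : V) : π g v ∈ eig π ψ y d ↔ v ∈ eig π ψ x (κ * d) := by
  constructor
  · intro hv t
    refine act_injective π g ?_
    rw [← act_mul, h, act_mul, hv, map_smul]
    congr 2; ring
  · intro hv u
    obtain ⟨t, rfl⟩ : ∃ t, κ * t = u := ⟨κ⁻¹ * u, mul_inv_cancel_left₀ hκ u⟩
    rw [← act_mul, ← h, act_mul, hv, map_smul]
    congr 2; ring

theorem finrank_comap (g : G) (W : Submodule ℂ V) :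
    finrank ℂ ↥(W.comap (π g)) = finrank ℂ ↥W := by
  refine LinearEquiv.finrank_eq (LinearEquiv.ofBijective ((π g).restrict (p := W.comap (π g)) (q := W) fun v hv => hv)
    ⟨fun a b e => Subtype.ext (act_injective π g (congrArg Subtype.val e)), fun w => ?_⟩)
  have e : π g (π g⁻¹ w.1) = w.1 := by rw [← act_mul, mul_inv_cancel, act_one]
  exact ⟨⟨π g⁻¹ w.1, by show π g _ ∈ W; rw [e]; exact w.2⟩, Subtype.ext e⟩

theorem finrank_le_of_act [FiniteDimensional ℂ V] (g : G) {W W' : Submodule ℂ V} (h : ∀ v ∈ W, π g v ∈ W') :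
    finrank ℂ ↥W ≤ finrank ℂ ↥W' :=
  LinearMap.finrank_le_finrank_of_injective (f := (π g).restrict h) fun _ _ e =>
    Subtype.ext (act_injective π g (congrArg Subtype.val e))

/-! ### Averaging -/

variable [Fintype F]

/-- The projection to a character of a one-parameter subgroup. -/
noncomputable def avg (x : F → G) (c : F) : Module.End ℂ V :=
  (Fintype.card F : ℂ)⁻¹ • ∑ t : F, ψ (-(c * t)) • π (x t)

theorem avg_apply (x : F → G) (c : F) (v : V) :
    avg π ψ x c v = (Fintype.card F : ℂ)⁻¹ • ∑ t : F, ψ (-(c * t)) • π (x t) v := by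
  simp [avg, LinearMap.sum_apply]

theorem psi_sum [DecidableEq F] (hψ : ψ ≠ 1) (b : F) :
    ∑ t : F, ψ (b * t) = if b = 0 then (Fintype.card F : ℂ) else 0 := by
  have h := AddChar.sum_mulShift (ψ := ψ) b (AddChar.IsPrimitive.of_ne_one hψ)
  simp only [mul_comm _ b] at h
  rw [h]; split_ifs <;> simp

theorem avg_mem_eig {x : F → G} (hx : OnePar x) (c : F) (v : V) : avg π ψ x c v ∈ eig π ψ x c := fun u => by
  rw [avg_apply, map_smul, map_sum, smul_comm (ψ (c * u))]
  congr 1
  rw [Finset.smul_sum]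
  refine Fintype.sum_equiv (Equiv.addLeft u) _ _ fun t => ?_
  rw [map_smul, ← act_mul, ← hx, Equiv.coe_addLeft, smul_smul, ← AddChar.map_add_eq_mul]
  congr 2
  ring

theorem avg_mem {x : F → G} {W : Submodule ℂ V} (h : Inv π x W) (c : F) {v : V} (hv : v ∈ W) :
    avg π ψ x c v ∈ W := by
  rw [avg_apply]
  exact W.smul_mem _ (W.sum_mem fun t _ => W.smul_mem _ (h t v hv))

theorem sum_avg {x : F → G} (hx : OnePar x) (hψ : ψ ≠ 1) (v : V) : ∑ c : F, avg π ψ x c v = v := by
  classical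
  simp only [avg_apply]
  rw [← Finset.smul_sum, Finset.sum_comm]
  have : ∀ t : F, ∑ c : F, ψ (-(c * t)) • π (x t) v = if t = 0 then (Fintype.card F : ℂ) • v else 0 := fun t => by
    rw [← Finset.sum_smul, Finset.sum_congr rfl (fun c _ => by rw [show -(c * t) = -t * c by ring]),
      psi_sum ψ hψ (-t)]
    by_cases ht : t = 0
    · subst ht; simp [hx.map_zero]
    · simp [ht]
  simp only [this, Finset.sum_ite_eq', Finset.mem_univ, if_true]
  rw [smul_smul, inv_mul_cancel₀ (Nat.cast_ne_zero.2 Fintype.card_ne_zero), one_smul]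

theorem avg_of_mem [DecidableEq F] (hψ : ψ ≠ 1) {x : F → G} {m : F} {v : V} (hv : v ∈ eig π ψ x m) (c : F) :
    avg π ψ x c v = if c = m then v else 0 := by
  rw [avg_apply]
  have : ∀ t : F, ψ (-(c * t)) • π (x t) v = ψ ((m - c) * t) • v := fun t => by
    rw [hv, smul_smul, ← AddChar.map_add_eq_mul]
    congr 2
    ring
  rw [Finset.sum_congr rfl fun t _ => this t, ← Finset.sum_smul, psi_sum ψ hψ, smul_smul]
  by_cases h : c = m
  · subst h
    rw [if_pos (sub_self c), if_pos rfl, inv_mul_cancel₀ (Nat.cast_ne_zero.2 Fintype.card_ne_zero), one_smul]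
  · rw [if_neg (sub_ne_zero.2 (Ne.symm h)), if_neg h, mul_zero, zero_smul]

/-- An invariant subspace is the sum of its eigenspaces. -/
theorem split [FiniteDimensional ℂ V] {x : F → G} (hx : OnePar x) (hψ : ψ ≠ 1) (W : Submodule ℂ V)
    (h : Inv π x W) : finrank ℂ ↥W = ∑ c : F, finrank ℂ ↥(W ⊓ eig π ψ x c) := by
  classical
  rw [← Module.finrank_pi_fintype]
  refine LinearEquiv.finrank_eq (LinearEquiv.ofBijective
    (LinearMap.pi fun c => LinearMap.codRestrict (W ⊓ eig π ψ x c) ((avg π ψ x c).comp W.subtype)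
      fun v => ⟨avg_mem π ψ h c v.2, avg_mem_eig π ψ hx c v.1⟩) ⟨?_, ?_⟩)
  · intro v w e
    refine Subtype.ext ?_
    rw [← sum_avg π ψ hx hψ v.1, ← sum_avg π ψ hx hψ w.1]
    exact Finset.sum_congr rfl fun c _ => congrArg Subtype.val (congrFun e c)
  · intro u
    refine ⟨⟨∑ c, (u c).1, W.sum_mem fun c _ => (u c).2.1⟩, funext fun d => Subtype.ext ?_⟩
    show avg π ψ x d (∑ c, (u c).1) = (u d).1
    rw [map_sum, Finset.sum_eq_single d]
    · rw [avg_of_mem π ψ hψ (u d).2.2, if_pos rfl]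
    · intro c _ hc
      rw [avg_of_mem π ψ hψ (u c).2.2, if_neg (Ne.symm hc)]
    · exact fun hd => absurd (Finset.mem_univ d) hd

theorem le_of_split [FiniteDimensional ℂ V] {x : F → G} (hx : OnePar x) (hψ : ψ ≠ 1) (W : Submodule ℂ V)
    (h : Inv π x W) (s : Finset F) : ∑ c ∈ s, finrank ℂ ↥(W ⊓ eig π ψ x c) ≤ finrank ℂ ↥W := by
  rw [split π ψ hx hψ W h]
  exact Finset.sum_le_univ_sum_of_nonneg fun _ => Nat.zero_le _

end Cfsg.Agent.Lib.G2Deg41
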