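import Cfsg.Agent.Lib.G2Deg41.Base

/-!
A representation whose space of vectors fixed by the maximal unipotent subgroup is a line: the matrix
coefficient of the line.
-/

set_option autoImplicit false

namespace Cfsg.Agent.Lib.G2Deg41

open Module

variable {F G V : Type*} [Field F] [Group G] [Finite G] [AddCommGroup V] [Module ℂ V]

/-- The average over a subgroup. -/
noncomputable def avgG (π : G →* Module.End ℂ V) (H : Subgroup G) : Module.End ℂ V :=
  letI := Fintype.ofFinite ↥H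
  (Fintype.card ↥H : ℂ)⁻¹ • ∑ h : ↥H, π h

variable (π : G →* Module.End ℂ V) {H : Subgroup G}

theorem act_avgG {g : G} (hg : g ∈ H) : π g * avgG π H = avgG π H := by
  letI := Fintype.ofFinite ↥H
  rw [avgG, mul_smul_comm, Finset.mul_sum]
  congr 1
  exact Fintype.sum_equiv (Equiv.mulLeft ⟨g, hg⟩) _ _ fun h => by rw [← map_mul]; rfl

theorem avgG_act {g : G} (hg : g ∈ H) : avgG π H * π g = avgG π H := by
  letI := Fintype.ofFinite ↥H
  rw [avgG, smul_mul_assoc, Finset.sum_mul]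
  congr 1
  exact Fintype.sum_equiv (Equiv.mulRight ⟨g, hg⟩) _ _ fun h => by rw [← map_mul]; rfl

theorem avgG_fixed {v : V} (h : ∀ g ∈ H, π g v = v) : avgG π H v = v := by
  letI := Fintype.ofFinite ↥H
  rw [avgG, LinearMap.smul_apply, LinearMap.sum_apply, Finset.sum_congr rfl (g := fun _ => v) fun (x : ↥H) _ => h x.1 x.2,
    Finset.sum_const, Finset.card_univ, ← Nat.cast_smul_eq_nsmul ℂ, smul_smul,
    inv_mul_cancel₀ (Nat.cast_ne_zero.2 Fintype.card_ne_zero), one_smul]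

theorem avgG_mul_le {R : Subgroup G} (h : R ≤ H) : avgG π H * avgG π R = avgG π H := by
  letI := Fintype.ofFinite ↥R
  rw [avgG.eq_1 π R, mul_smul_comm, Finset.mul_sum, Finset.sum_congr rfl (g := fun _ => avgG π H)
    fun x _ => avgG_act π (h x.2), Finset.sum_const, Finset.card_univ, ← Nat.cast_smul_eq_nsmul ℂ, smul_smul,
    inv_mul_cancel₀ (Nat.cast_ne_zero.2 Fintype.card_ne_zero), one_smul]

/-- An element conjugating the subgroup into itself commutes with the average. -/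
theorem avgG_commute {g : G} (hg : ∀ h ∈ H, g * h * g⁻¹ ∈ H) : Commute (π g) (avgG π H) := by
  letI := Fintype.ofFinite ↥H
  show _ * _ = _ * _
  rw [avgG, mul_smul_comm, smul_mul_assoc, Finset.mul_sum, Finset.sum_mul]
  congr 1
  have hbij : Function.Bijective (fun h : ↥H => (⟨g * h * g⁻¹, hg h h.2⟩ : ↥H)) :=
    Finite.injective_iff_bijective.1 fun a b e => Subtype.ext (by simpa using congrArg Subtype.val e)
  refine Fintype.sum_bijective _ hbij _ _ fun h => ?_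
  rw [← map_mul, ← map_mul]; simp

theorem fixed_closure {s : Set G} {v : V} (h : ∀ g ∈ s, π g v = v) : ∀ g ∈ Subgroup.closure s, π g v = v := by
  intro g hg
  induction hg using Subgroup.closure_induction with
  | mem x hx => exact h x hx
  | one => exact act_one π v
  | mul a b _ _ ha hb => rw [act_mul, hb, ha]
  | inv a _ ha => conv_lhs => rw [← ha, ← act_mul, inv_mul_cancel, act_one]

omit [Finite G] in
theorem conj_closure {s : Set G} {g : G} (h : ∀ x ∈ s, g * x * g⁻¹ ∈ Subgroup.closure s) :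
    ∀ x ∈ Subgroup.closure s, g * x * g⁻¹ ∈ Subgroup.closure s := by
  intro x hx
  induction hx using Subgroup.closure_induction with
  | mem x hx => exact h x hx
  | one => simp
  | mul a b _ _ ha hb => rw [show g * (a * b) * g⁻¹ = g * a * g⁻¹ * (g * b * g⁻¹) by group]; exact mul_mem ha hb
  | inv a _ ha => rw [show g * a⁻¹ * g⁻¹ = (g * a * g⁻¹)⁻¹ by group]; exact inv_mem ha

omit [Finite G] in
theorem conj_inv_mem [Finite G] {g : G} (h : ∀ x ∈ H, g * x * g⁻¹ ∈ H) : ∀ x ∈ H, g⁻¹ * x * g⁻¹⁻¹ ∈ H := by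
  intro x hx
  have hbij : Function.Bijective (fun y : ↥H => (⟨g * y * g⁻¹, h y y.2⟩ : ↥H)) :=
    Finite.injective_iff_bijective.1 fun a b e => Subtype.ext (by simpa using congrArg Subtype.val e)
  obtain ⟨y, hy⟩ := hbij.2 ⟨x, hx⟩
  have : g * y * g⁻¹ = x := congrArg Subtype.val hy
  rw [← this]
  simp [mul_assoc]

namespace Data

omit [Finite G]
variable (D : Data F G)

/-- The maximal unipotent subgroup. -/
def U : Subgroup G := Subgroup.closure {g | ∃ t, g ∈ [D.A t, D.B t, D.P t, D.S t, D.L t, D.Z t]}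

/-- The radical over the short root. -/
def RA : Subgroup G := Subgroup.closure {g | ∃ t, g ∈ [D.B t, D.P t, D.S t, D.L t, D.Z t]}

/-- The radical over the long root. -/
def RB : Subgroup G := Subgroup.closure {g | ∃ t, g ∈ [D.A t, D.P t, D.S t, D.L t, D.Z t]}

theorem mem_U {t : F} {g : G} (h : g ∈ [D.A t, D.B t, D.P t, D.S t, D.L t, D.Z t]) : g ∈ D.U :=
  Subgroup.subset_closure ⟨t, h⟩

theorem mem_RA {t : F} {g : G} (h : g ∈ [D.B t, D.P t, D.S t, D.L t, D.Z t]) : g ∈ D.RA :=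
  Subgroup.subset_closure ⟨t, h⟩

theorem mem_RB {t : F} {g : G} (h : g ∈ [D.A t, D.P t, D.S t, D.L t, D.Z t]) : g ∈ D.RB :=
  Subgroup.subset_closure ⟨t, h⟩

theorem mA_U (t : F) : D.A t ∈ D.U := D.mem_U (t := t) (by simp)

theorem mB_U (t : F) : D.B t ∈ D.U := D.mem_U (t := t) (by simp)

theorem mP_U (t : F) : D.P t ∈ D.U := D.mem_U (t := t) (by simp)

theorem mS_U (t : F) : D.S t ∈ D.U := D.mem_U (t := t) (by simp)

theorem mL_U (t : F) : D.L t ∈ D.U := D.mem_U (t := t) (by simp)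

theorem mZ_U (t : F) : D.Z t ∈ D.U := D.mem_U (t := t) (by simp)

theorem mB_RA (t : F) : D.B t ∈ D.RA := D.mem_RA (t := t) (by simp)

theorem mP_RA (t : F) : D.P t ∈ D.RA := D.mem_RA (t := t) (by simp)

theorem mS_RA (t : F) : D.S t ∈ D.RA := D.mem_RA (t := t) (by simp)

theorem mL_RA (t : F) : D.L t ∈ D.RA := D.mem_RA (t := t) (by simp)

theorem mZ_RA (t : F) : D.Z t ∈ D.RA := D.mem_RA (t := t) (by simp)

theorem mA_RB (t : F) : D.A t ∈ D.RB := D.mem_RB (t := t) (by simp)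

theorem mP_RB (t : F) : D.P t ∈ D.RB := D.mem_RB (t := t) (by simp)

theorem mS_RB (t : F) : D.S t ∈ D.RB := D.mem_RB (t := t) (by simp)

theorem mL_RB (t : F) : D.L t ∈ D.RB := D.mem_RB (t := t) (by simp)

theorem mZ_RB (t : F) : D.Z t ∈ D.RB := D.mem_RB (t := t) (by simp)

theorem RA_le : D.RA ≤ D.U := Subgroup.closure_mono fun g ⟨t, h⟩ => ⟨t, List.mem_cons_of_mem _ h⟩

theorem RB_le : D.RB ≤ D.U := Subgroup.closure_mono fun g ⟨t, h⟩ => ⟨t, by
  simp only [List.mem_cons, List.not_mem_nil, or_false] at h ⊢; tauto⟩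

theorem conj_eq {g a b : G} (h : g * a = b * g) : g * a * g⁻¹ = b := by rw [h, mul_inv_cancel_right]

theorem tor_conj_U (a b : Fˣ) : ∀ x ∈ D.U, D.tor a b * x * (D.tor a b)⁻¹ ∈ D.U := by
  refine conj_closure fun x hx => ?_
  obtain ⟨t, h⟩ := hx
  simp only [List.mem_cons, List.not_mem_nil, or_false] at h
  rcases h with rfl | rfl | rfl | rfl | rfl | rfl
  · rw [conj_eq (D.torA a b t)]; exact D.mA_U _
  · rw [conj_eq (D.torB a b t)]; exact D.mB_U _
  · rw [conj_eq (D.torP a b t)]; exact D.mP_U _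
  · rw [conj_eq (D.torS a b t)]; exact D.mS_U _
  · rw [conj_eq (D.torL a b t)]; exact D.mL_U _
  · rw [conj_eq (D.torZ a b t)]; exact D.mZ_U _

theorem na_conj_RA : ∀ x ∈ D.RA, D.na * x * D.na⁻¹ ∈ D.RA := by
  refine conj_closure fun x hx => ?_
  obtain ⟨t, h⟩ := hx
  simp only [List.mem_cons, List.not_mem_nil, or_false] at h
  rcases h with rfl | rfl | rfl | rfl | rfl
  · rw [conj_eq (D.na_B t)]; exact D.mL_RA _
  · rw [conj_eq (D.na_P t)]; exact D.mS_RA _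
  · rw [conj_eq (D.na_S t)]; exact D.mP_RA _
  · rw [conj_eq (D.na_L t)]; exact D.mB_RA _
  · rw [conj_eq (D.na_Z t)]; exact D.mZ_RA _

theorem nb_conj_RB : ∀ x ∈ D.RB, D.nb * x * D.nb⁻¹ ∈ D.RB := by
  refine conj_closure fun x hx => ?_
  obtain ⟨t, h⟩ := hx
  simp only [List.mem_cons, List.not_mem_nil, or_false] at h
  rcases h with rfl | rfl | rfl | rfl | rfl
  · rw [conj_eq (D.nb_A t)]; exact D.mP_RB _
  · rw [conj_eq (D.nb_P t)]; exact D.mA_RB _
  · rw [conj_eq (D.nb_S t)]; exact D.mS_RB _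
  · rw [conj_eq (D.nb_L t)]; exact D.mZ_RB _
  · rw [conj_eq (D.nb_Z t)]; exact D.mL_RB _

theorem conj_eq' {g a tail : G} (h : g * a = a * g * tail) : g * a * g⁻¹ = a * (g * tail * g⁻¹) := by
  rw [h]; group

theorem A_conj_RA (u : F) : ∀ x ∈ D.RA, D.A u * x * (D.A u)⁻¹ ∈ D.RA := by
  refine conj_closure fun x hx => ?_
  have hZ : ∀ t, D.A u * D.Z t * (D.A u)⁻¹ = D.Z t := fun t => conj_eq (D.cAZ u t).eq
  have hL : ∀ t, D.A u * D.L t * (D.A u)⁻¹ = D.L t := fun t => conj_eq (D.cAL u t).eq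
  have mZ := D.mZ_RA
  have mL := D.mL_RA
  have mS := D.mS_RA
  have mP := D.mP_RA
  have mB := D.mB_RA
  have hS : ∀ t, D.A u * D.S t * (D.A u)⁻¹ ∈ D.RA := fun t => by
    rw [conj_eq' (D.AS t u)]; exact mul_mem (mS t) (by rw [hL]; exact mL _)
  have sp : ∀ {a b : G}, D.A u * a * (D.A u)⁻¹ ∈ D.RA → D.A u * b * (D.A u)⁻¹ ∈ D.RA →
      D.A u * (a * b) * (D.A u)⁻¹ ∈ D.RA := fun {a b} ha hb => by
    rw [show D.A u * (a * b) * (D.A u)⁻¹ = D.A u * a * (D.A u)⁻¹ * (D.A u * b * (D.A u)⁻¹) by group]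
    exact mul_mem ha hb
  have cZ : ∀ t, D.A u * D.Z t * (D.A u)⁻¹ ∈ D.RA := fun t => by rw [hZ]; exact mZ t
  have cL : ∀ t, D.A u * D.L t * (D.A u)⁻¹ ∈ D.RA := fun t => by rw [hL]; exact mL t
  have hP : ∀ t, D.A u * D.P t * (D.A u)⁻¹ ∈ D.RA := fun t => by
    rw [conj_eq' (D.AP t u)]; exact mul_mem (mP t) (sp (sp (hS _) (cZ _)) (cL _))
  obtain ⟨t, h⟩ := hx
  simp only [List.mem_cons, List.not_mem_nil, or_false] at h
  rcases h with rfl | rfl | rfl | rfl | rfl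
  · rw [conj_eq' (D.AB t u)]; exact mul_mem (mB t) (sp (sp (sp (hP _) (hS _)) (cL _)) (cZ _))
  · exact hP t
  · exact hS t
  · exact cL t
  · exact cZ t

theorem B_conj_RB (u : F) : ∀ x ∈ D.RB, D.B u * x * (D.B u)⁻¹ ∈ D.RB := by
  refine conj_closure fun x hx => ?_
  have mZ := D.mZ_RB
  have mL := D.mL_RB
  have mS := D.mS_RB
  have mP := D.mP_RB
  have mA := D.mA_RB
  have cZ : ∀ t, D.B u * D.Z t * (D.B u)⁻¹ ∈ D.RB := fun t => by rw [conj_eq (D.cBZ u t).eq]; exact mZ t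
  have cS : ∀ t, D.B u * D.S t * (D.B u)⁻¹ ∈ D.RB := fun t => by rw [conj_eq (D.cBS u t).eq]; exact mS t
  have cP : ∀ t, D.B u * D.P t * (D.B u)⁻¹ ∈ D.RB := fun t => by rw [conj_eq (D.cBP u t).eq]; exact mP t
  have cL : ∀ t, D.B u * D.L t * (D.B u)⁻¹ ∈ D.RB := fun t => by
    rw [conj_eq' (D.BL t u)]; exact mul_mem (mL t) (cZ _)
  have sp : ∀ {a b : G}, D.B u * a * (D.B u)⁻¹ ∈ D.RB → D.B u * b * (D.B u)⁻¹ ∈ D.RB →
      D.B u * (a * b) * (D.B u)⁻¹ ∈ D.RB := fun {a b} ha hb => by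
    rw [show D.B u * (a * b) * (D.B u)⁻¹ = D.B u * a * (D.B u)⁻¹ * (D.B u * b * (D.B u)⁻¹) by group]
    exact mul_mem ha hb
  obtain ⟨t, h⟩ := hx
  simp only [List.mem_cons, List.not_mem_nil, or_false] at h
  rcases h with rfl | rfl | rfl | rfl | rfl
  · rw [conj_eq' (D.BA t u)]; exact mul_mem (mA t) (sp (sp (sp (cP _) (cS _)) (cL _)) (cZ _))
  · exact cP t
  · exact cS t
  · exact cL t
  · exact cZ t

end Data

/-- A member of the product of the maximal unipotent subgroup and the torus. -/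
def InBorel (D : Data F G) (g : G) : Prop := ∃ u ∈ D.U, ∃ a b, g = u * D.tor a b

/-- A representation with a line of fixed vectors of `U`, and its coefficient. -/
structure LineData (X : Ctx F G V) where
  f : V
  eps : V →ₗ[ℂ] ℂ
  chi : Fˣ → Fˣ → ℂ
  eps_f : eps f = 1
  fix : ∀ u ∈ X.D.U, X.π u f = f
  avg_eq : ∀ v, avgG X.π X.D.U v = eps v • f
  tor_f : ∀ a b, X.π (X.D.tor a b) f = chi a b • f

namespace Ctx

variable (X : Ctx F G V) [Fintype F] [FiniteDimensional ℂ V] (h3 : (3 : F) ≠ 0)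
include h3

theorem exists_line (hq : 5 ≤ Fintype.card F) (hf : finrank ℂ ↥(X.K 0 0 0 0) = 1) :
    ∃ L : LineData X, X.π X.D.na L.f = L.f ∧ LinearMap.trace ℂ V (avgG X.π X.D.U) = 1 := by
  classical
  obtain ⟨⟨f, hfK⟩, hf0, hspan⟩ := finrank_eq_one_iff'.1 hf
  have hfne : f ≠ 0 := fun e => hf0 (Subtype.ext e)
  have line : ∀ v ∈ X.K 0 0 0 0, ∃ c : ℂ, v = c • f := fun v hv => by
    obtain ⟨c, hc⟩ := hspan ⟨v, hv⟩
    exact ⟨c, (congrArg Subtype.val hc).symm⟩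
  obtain ⟨ρ, hρ, -⟩ := exists_rho F hq
  have hρ1 : (ρ : F) ≠ 1 := fun e => hρ (by rw [Units.ext (show (ρ : F) = (1 : Fˣ) from e), one_pow])
  have torK : ∀ a b : Fˣ, X.π (X.D.tor a b) f ∈ X.K 0 0 0 0 := fun a b => by
    obtain ⟨⟨⟨⟨hZ, hL⟩, hS⟩, hP⟩, hB⟩ := hfK
    have ha := a.ne_zero
    have hb := b.ne_zero
    exact ⟨⟨⟨⟨(act_mem_eig X.π X.ψ (mul_ne_zero (pow_ne_zero _ ha) (pow_ne_zero _ hb)) (X.D.torZ a b) 0 f).2
        (by rwa [mul_zero]),
      (act_mem_eig X.π X.ψ (mul_ne_zero (pow_ne_zero _ ha) hb) (X.D.torL a b) 0 f).2 (by rwa [mul_zero])⟩,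
      (act_mem_eig X.π X.ψ (mul_ne_zero (pow_ne_zero _ ha) hb) (X.D.torS a b) 0 f).2 (by rwa [mul_zero])⟩,
      (act_mem_eig X.π X.ψ (mul_ne_zero ha hb) (X.D.torP a b) 0 f).2 (by rwa [mul_zero])⟩,
      (act_mem_eig X.π X.ψ hb (X.D.torB a b) 0 f).2 (by rwa [mul_zero])⟩
  choose χ hχ using fun a b => line _ (torK a b)
  have hA : ∀ t, X.π (X.D.A t) f = f := by
    have hc : ∀ t, ∃ c : ℂ, X.π (X.D.A t) f = c • f := fun t => line _ (by
      have h : X.π (X.D.A t) f ∈ _ := X.A_mem_K t hfK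
      simpa using h)
    choose c hc using hc
    have hadd : ∀ s t, c (s + t) = c s * c t := fun s t => by
      have h := hc (s + t)
      rw [X.D.addA, act_mul, hc t, map_smul, hc s, smul_smul] at h
      exact (smul_left_injective ℂ hfne h).symm.trans (mul_comm _ _)
    have hscale : ∀ t, c ((ρ : F) * t) = c t := fun t => by
      have h := congrArg (fun g => X.π g f) (X.D.torA ρ 1 t)
      simp only [act_mul] at h
      rw [hc t, hχ ρ 1, map_smul, map_smul, hχ ρ 1, hc ((ρ : F) * t), smul_smul, smul_smul, mul_comm (χ ρ 1)] at h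
      have hχ0 : χ ρ 1 ≠ 0 := fun e => hfne (act_injective X.π (X.D.tor ρ 1) (by
        rw [hχ ρ 1, e, zero_smul, map_zero]))
      exact (mul_right_cancel₀ hχ0 (smul_left_injective ℂ hfne h)).symm
    intro t
    have hc0 : ∀ t, c t ≠ 0 := fun t e => hfne (act_injective X.π (X.D.A t) (by rw [hc t, e, zero_smul, map_zero]))
    have : c t = 1 := by
      have h := hadd (t / ((ρ : F) - 1) * ((ρ : F) - 1)) (t / ((ρ : F) - 1))
      rw [show t / ((ρ : F) - 1) * ((ρ : F) - 1) + t / ((ρ : F) - 1) = (ρ : F) * (t / ((ρ : F) - 1)) by ring,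
        hscale, div_mul_cancel₀ t (sub_ne_zero.2 hρ1)] at h
      exact mul_eq_right₀ (hc0 _) |>.1 h.symm
    rw [hc t, this, one_smul]
  obtain ⟨⟨⟨⟨hZ, hL⟩, hS⟩, hP⟩, hB⟩ := id hfK
  have hfix : ∀ u ∈ X.D.U, X.π u f = f := fixed_closure X.π fun g ⟨t, hg⟩ => by
    simp only [List.mem_cons, List.not_mem_nil, or_false] at hg
    rcases hg with rfl | rfl | rfl | rfl | rfl | rfl
    exacts [hA t, X.act_of_mem_zero hB t, X.act_of_mem_zero hP t, X.act_of_mem_zero hS t, X.act_of_mem_zero hL t,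
      X.act_of_mem_zero hZ t]
  have hfixed : ∀ v, (∀ u ∈ X.D.U, X.π u v = v) → v ∈ X.K 0 0 0 0 := fun v hv => by
    refine ⟨⟨⟨⟨?_, ?_⟩, ?_⟩, ?_⟩, ?_⟩ <;>
      exact (eig_zero X.π X.ψ).2 fun t => hv _ (X.D.mem_U (t := t) (by simp only [List.mem_cons, true_or, or_true]))
  have hproj : LinearMap.IsProj (X.K 0 0 0 0) (avgG X.π X.D.U) := by
    refine ⟨fun v => hfixed _ fun u hu => ?_, fun v hv => ?_⟩
    · rw [← Module.End.mul_apply, act_avgG X.π hu]
    · obtain ⟨c, rfl⟩ := line v hv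
      rw [map_smul, avgG_fixed X.π hfix]
  obtain ⟨ℓ, hℓ'⟩ := LinearMap.exists_leftInverse_of_injective (LinearMap.toSpanSingleton ℂ V f)
    (LinearMap.ker_eq_bot'.2 fun c hc => (smul_eq_zero.1 (by simpa using hc)).resolve_right hfne)
  have hℓ : ℓ f = 1 := by simpa using LinearMap.congr_fun hℓ' 1
  let L : LineData X :=
    { f := f
      eps := ℓ ∘ₗ avgG X.π X.D.U
      chi := χ
      eps_f := by rw [LinearMap.comp_apply, avgG_fixed X.π hfix, hℓ]
      fix := hfix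
      avg_eq := fun v => by
        obtain ⟨c, hc⟩ := line _ (hproj.map_mem v)
        rw [LinearMap.comp_apply, hc, map_smul, hℓ, smul_eq_mul, mul_one]
      tor_f := hχ }
  refine ⟨L, ?_, by rw [hproj.trace, hf, Nat.cast_one]⟩
  have hna : X.π X.D.na⁻¹ f ∈ X.K 0 0 0 0 := by
    have h : ∀ x ∈ X.D.RA, X.π x (X.π X.D.na⁻¹ f) = X.π X.D.na⁻¹ f := fun x hx => by
      rw [← act_mul, show x * X.D.na⁻¹ = X.D.na⁻¹ * (X.D.na * x * X.D.na⁻¹) by group, act_mul,
        hfix _ (X.D.RA_le (X.D.na_conj_RA x hx))]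
    exact ⟨⟨⟨⟨(eig_zero X.π X.ψ).2 fun t => h _ (X.D.mZ_RA t), (eig_zero X.π X.ψ).2 fun t => h _ (X.D.mL_RA t)⟩,
      (eig_zero X.π X.ψ).2 fun t => h _ (X.D.mS_RA t)⟩, (eig_zero X.π X.ψ).2 fun t => h _ (X.D.mP_RA t)⟩,
      (eig_zero X.π X.ψ).2 fun t => h _ (X.D.mB_RA t)⟩
  obtain ⟨c, hc⟩ := line (X.π X.D.na⁻¹ f) hna
  show X.π X.D.na f = f
  conv_lhs => rw [X.D.na_word]
  simp only [act_mul, hA 1]
  rw [hc, map_smul, hA 1, ← hc, ← act_mul X.π X.D.na, mul_inv_cancel, act_one, hA 1]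

end Ctx

end Cfsg.Agent.Lib.G2Deg41
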