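import Cfsg.Agent.Lib.G2Deg41.Base
import Cfsg.Agent.Lib.Chars.Integral

/-!
The degree `q³ - 1` does not occur for `q ≡ 1 (mod 3)`: the value at an element of order three.
-/

set_option autoImplicit false

namespace Cfsg.Agent.Lib.G2Deg41

open Module

variable {F G V : Type*} [Field F] [Group G] [AddCommGroup V] [Module ℂ V]

/-- `g` is the scalar `η` on `W`. -/
def Scal (π : G →* Module.End ℂ V) (g : G) (η : ℂ) (W : Submodule ℂ V) : Prop := ∀ v ∈ W, π g v = η • v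

theorem Scal.move {π : G →* Module.End ℂ V} {g h : G} {η : ℂ} {W W' : Submodule ℂ V} (hs : Scal π g η W)
    (hc : Commute g h) (hm : ∀ v ∈ W', π h v ∈ W) : Scal π g η W' := fun v hv =>
  act_injective π h (by rw [← act_mul, ← hc.eq, act_mul, hs _ (hm v hv), map_smul])

theorem exists_scal [FiniteDimensional ℂ V] (π : G →* Module.End ℂ V) {g : G} {n : ℕ} (hn : g ^ n = 1)
    {W : Submodule ℂ V} (h1 : finrank ℂ ↥W = 1) (hinv : ∀ v ∈ W, π g v ∈ W) :
    ∃ η : ℂ, η ^ n = 1 ∧ Scal π g η W := by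
  obtain ⟨⟨v, hv⟩, hv0, hspan⟩ := finrank_eq_one_iff'.1 h1
  obtain ⟨η, hη⟩ := hspan ⟨_, hinv v hv⟩
  have hη' : π g v = η • v := (congrArg Subtype.val hη).symm
  refine ⟨η, ?_, fun w hw => ?_⟩
  · have hpow : ∀ j : ℕ, π (g ^ j) v = η ^ j • v := fun j => by
      induction j with
      | zero => rw [pow_zero, act_one, pow_zero, one_smul]
      | succ j ih => rw [pow_succ, act_mul, hη', map_smul, ih, smul_smul, pow_succ, mul_comm]
    have := hpow n
    rw [hn, act_one] at this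
    have h' : (η ^ n - 1) • v = 0 := by rw [sub_smul, one_smul, ← this, sub_self]
    exact sub_eq_zero.1 ((smul_eq_zero.1 h').resolve_right fun e => hv0 (Subtype.ext e))
  · obtain ⟨c, hc⟩ := hspan ⟨w, hw⟩
    have hw' : w = c • v := (congrArg Subtype.val hc).symm
    rw [hw', map_smul, hη', smul_comm]

variable [Fintype F] (π : G →* Module.End ℂ V) (ψ : AddChar F ℂ)

theorem avg_mul_avg (hψ : ψ ≠ 1) [DecidableEq F] {x : F → G} (hx : OnePar x) (c d : F) :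
    avg π ψ x c * avg π ψ x d = if c = d then avg π ψ x d else 0 := by
  refine LinearMap.ext fun v => ?_
  rw [Module.End.mul_apply, avg_of_mem π ψ hψ (avg_mem_eig π ψ hx d v) c]
  split <;> rfl

theorem avg_commute {x y : F → G} (h : ∀ t u, Commute (x t) (y u)) (c d : F) :
    Commute (avg π ψ x c) (avg π ψ y d) := by
  unfold avg
  refine (Commute.sum_left _ _ _ fun t _ => ?_).smul_left _
  refine ((Commute.sum_right _ _ _ fun u _ => ?_).smul_right _).smul_left _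
  exact ((h t u).map π).smul_right _

theorem act_mul_avg {x y : F → G} {g : G} {κ : F} (hκ : κ ≠ 0) (h : ∀ t, g * x t = y (κ * t) * g) (d : F) :
    π g * avg π ψ x (κ * d) = avg π ψ y d * π g := by
  unfold avg
  rw [mul_smul_comm, smul_mul_assoc, Finset.mul_sum, Finset.sum_mul]
  congr 1
  refine Fintype.sum_equiv (Equiv.mulLeft₀ κ hκ) _ _ fun t => ?_
  rw [mul_smul_comm, smul_mul_assoc, ← map_mul, ← map_mul, h]
  simp only [Equiv.mulLeft₀_apply]
  congr 2; ring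

theorem act_avg_commute {x : F → G} {g : G} (h : ∀ t, g * x t = x t * g) (d : F) :
    Commute (π g) (avg π ψ x d) := by
  have := act_mul_avg π ψ (κ := (1 : F)) one_ne_zero (x := x) (y := x) (g := g) (fun t => by rw [one_mul]; exact h t) d
  rw [one_mul] at this
  exact this

/-- Only the fixed character contributes to a trace. -/
theorem trace_moved [FiniteDimensional ℂ V] (hψ : ψ ≠ 1) {x : F → G} (hx : OnePar x) {g : G} {κ : F}
    (hκ : κ ≠ 0) (hκ1 : κ ≠ 1) (h : ∀ t, g * x t = x (κ * t) * g) (E : Module.End ℂ V)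
    (hgE : Commute (π g) E) (hE : ∀ c, Commute E (avg π ψ x c)) :
    LinearMap.trace ℂ V (π g * E) = LinearMap.trace ℂ V (π g * (E * avg π ψ x 0)) := by
  classical
  have hsum : ∑ c, avg π ψ x c = 1 := LinearMap.ext fun v => by
    rw [LinearMap.sum_apply, sum_avg π ψ hx hψ, Module.End.one_apply]
  conv_lhs => rw [← mul_one E, ← hsum, Finset.mul_sum, Finset.mul_sum, map_sum]
  refine Finset.sum_eq_single 0 (fun c _ hc => ?_) (fun e => absurd (Finset.mem_univ _) e)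
  have h0 : avg π ψ x c * avg π ψ x (c / κ) = 0 := by
    rw [avg_mul_avg π ψ hψ hx, if_neg]
    intro e
    rw [eq_div_iff hκ] at e
    exact hκ1 (mul_left_cancel₀ hc (by rw [mul_one]; exact e))
  calc LinearMap.trace ℂ V (π g * (E * avg π ψ x c))
      = LinearMap.trace ℂ V (π g * (E * avg π ψ x c) * avg π ψ x c) := by
        rw [mul_assoc, mul_assoc, avg_mul_avg π ψ hψ hx, if_pos rfl]
    _ = LinearMap.trace ℂ V (avg π ψ x c * (π g * (E * avg π ψ x c))) := LinearMap.trace_mul_comm _ _ _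
    _ = LinearMap.trace ℂ V (avg π ψ x c * avg π ψ x (c / κ) * (E * π g)) := by
        congr 1
        have e1 := act_mul_avg π ψ hκ h (c / κ)
        rw [mul_div_cancel₀ c hκ] at e1
        rw [mul_assoc (avg π ψ x c), (hE c).eq, ← mul_assoc (π g), e1, mul_assoc, hgE.eq]
    _ = 0 := by rw [h0, zero_mul, map_zero]

/-- The trace of an element scalar on the range of a projection. -/
theorem trace_scal [FiniteDimensional ℂ V] {g : G} {η : ℂ} {W : Submodule ℂ V} {E : Module.End ℂ V}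
    (hE : LinearMap.IsProj W E) (hs : Scal π g η W) :
    LinearMap.trace ℂ V (π g * E) = η * finrank ℂ ↥W := by
  rw [show π g * E = η • E from LinearMap.ext fun v => by
    rw [Module.End.mul_apply, hs _ (hE.map_mem v), LinearMap.smul_apply], map_smul, hE.trace, smul_eq_mul]

omit [Fintype F] in
theorem rat_cube_pair {r : ℂ} (hr : r ^ 3 = 1) : r + r ^ 2 = 2 ∨ r + r ^ 2 = -1 := by
  rcases eq_or_ne r 1 with h | h
  · left; rw [h]; norm_num
  · right
    have : (r - 1) * (r + r ^ 2 + 1) = 0 := by linear_combination hr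
    linear_combination (mul_eq_zero.1 this).resolve_left (sub_ne_zero.2 h)

open ComplexConjugate in
omit [Fintype F] in
/-- The squared modulus of a combination of cube roots. -/
theorem cube_norm {q : ℕ} {a b c : ℂ} (ha : a ^ 3 = 1) (hb : b ^ 3 = 1) (hc : c ^ 3 = 1) :
    ∃ n : ℤ, (q : ℤ) ^ 2 - 2 * q + 1 ≤ n ∧ n ≤ ((q : ℤ) + 2) ^ 2 ∧
      ((q : ℂ) * a + b + c) * conj ((q : ℂ) * a + b + c) = n := by
  have cj : ∀ {z : ℂ}, z ^ 3 = 1 → conj z = z ^ 2 := fun {z} hz => by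
    rw [← Complex.inv_eq_conj (Chars.norm_eq_one_of_pow_eq_one (by norm_num) hz)]
    exact inv_eq_of_mul_eq_one_right (by linear_combination hz)
  have pair : ∀ {u v : ℂ}, u ^ 3 = 1 → v ^ 3 = 1 →
      ∃ e : ℤ, -1 ≤ e ∧ e ≤ 2 ∧ u * v ^ 2 + v * u ^ 2 = e := fun {u v} hu hv => by
    have hr : (u * v ^ 2) ^ 3 = 1 := by rw [mul_pow, hu, ← pow_mul, mul_comm 2 3, pow_mul, hv]; norm_num
    have e2 : (u * v ^ 2) ^ 2 = v * u ^ 2 := by linear_combination (v * u ^ 2) * hv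
    rcases rat_cube_pair hr with e | e <;> rw [e2] at e
    · exact ⟨2, by norm_num, le_rfl, by rw [e]; norm_num⟩
    · exact ⟨-1, le_rfl, by norm_num, by rw [e]; norm_num⟩
  obtain ⟨e1, l1, u1, h1⟩ := pair ha hb
  obtain ⟨e2, l2, u2, h2⟩ := pair ha hc
  obtain ⟨e3, l3, u3, h3⟩ := pair hb hc
  have hq : (0 : ℤ) ≤ q := Int.natCast_nonneg q
  refine ⟨(q : ℤ) ^ 2 + 2 + q * e1 + q * e2 + e3, by nlinarith, by nlinarith, ?_⟩
  rw [map_add, map_add, map_mul, Complex.conj_natCast, cj ha, cj hb, cj hc]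
  push_cast
  rw [← h1, ← h2, ← h3]
  linear_combination (q : ℂ) ^ 2 * ha + hb + hc

namespace Ctx

variable {π ψ} (X : Ctx F G V) [FiniteDimensional ℂ V] (h3 : (3 : F) ≠ 0)
include h3

/-- The trace at the element of order three. -/
theorem trace_z (hq : 5 ≤ Fintype.card F) (hm : X.mh = 1) (hf : finrank ℂ ↥(X.K 0 0 0 0) = 0) {ω : Fˣ}
    (hω : ω ^ 3 = 1) (hω1 : ω ≠ 1) :
    ∃ a b c : ℂ, a ^ 3 = 1 ∧ b ^ 3 = 1 ∧ c ^ 3 = 1 ∧ LinearMap.trace ℂ V (X.π (X.D.tor ω 1)) =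
      ((Fintype.card F : ℂ) - 1) * ((Fintype.card F : ℂ) * a + b + c) := by
  classical
  set g := X.D.tor ω 1 with hg
  have hw3 : (ω : F) ^ 3 = 1 := by rw [← Units.val_pow_eq_pow_val, hω, Units.val_one]
  have hw1 : (ω : F) ≠ 1 := fun e => hω1 (Units.ext e)
  have hw0 : (ω : F) ≠ 0 := ω.ne_zero
  have hw2 : (ω : F) ^ 2 ≠ 1 := fun e => hw1 (by linear_combination hw3 - (ω : F) * e)
  have tor11 : X.D.tor 1 1 = 1 := by
    have := X.D.tor_mul 1 1 1 1
    rw [one_mul] at this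
    exact mul_eq_left.1 this
  have hg3 : g ^ 3 = 1 := by
    rw [hg, pow_succ, pow_two, X.D.tor_mul, X.D.tor_mul, one_mul, one_mul, ← pow_two, ← pow_succ, hω, tor11]
  have gZ : ∀ t, g * X.D.Z t = X.D.Z t * g := fun t => by rw [hg, X.D.torZ]; simp [hw3]
  have gL : ∀ t, g * X.D.L t = X.D.L t * g := fun t => by rw [hg, X.D.torL]; simp [hw3]
  have gB : ∀ t, g * X.D.B t = X.D.B t * g := fun t => by rw [hg, X.D.torB]; simp
  have gP : ∀ t, g * X.D.P t = X.D.P ((ω : F) * t) * g := fun t => by rw [hg, X.D.torP]; simp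
  have gS : ∀ t, g * X.D.S t = X.D.S ((ω : F) ^ 2 * t) * g := fun t => by rw [hg, X.D.torS]; simp
  have gtor : ∀ a b, Commute g (X.D.tor a b) := fun a b => by
    show _ * _ = _ * _
    rw [hg, X.D.tor_mul, X.D.tor_mul, mul_comm ω a, mul_comm 1 b]
  -- scalars on the three kinds of lines
  obtain ⟨a, ha, hsa⟩ := exists_scal X.π hg3 (W := X.T 0 0 1) (by exact hm) fun v hv => by
    refine ⟨⟨?_, X.comm_mem gL hv.1.2⟩, X.comm_mem gZ hv.2⟩
    exact (act_mem_eig X.π X.ψ hw0 gP 0 v).2 (by rw [mul_zero]; exact hv.1.1)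
  obtain ⟨b, hb, hsb⟩ := exists_scal X.π hg3 (W := X.E X.D.Z 0 ⊓ X.E X.D.L 1 ⊓ X.E X.D.S 0)
    (by rw [X.finrank_S h3 0 one_ne_zero, hm]) fun v hv => by
    refine ⟨⟨X.comm_mem gZ hv.1.1, X.comm_mem gL hv.1.2⟩, ?_⟩
    exact (act_mem_eig X.π X.ψ (pow_ne_zero _ hw0) gS 0 v).2 (by rw [mul_zero]; exact hv.2)
  obtain ⟨c, hc, hsc⟩ := exists_scal X.π hg3 (W := X.K 1 0 0 0) (X.K_beta h3 hq hm one_ne_zero) fun v hv => by
    refine ⟨⟨⟨⟨X.comm_mem gZ hv.1.1.1.1, X.comm_mem gL hv.1.1.1.2⟩, ?_⟩, ?_⟩, X.comm_mem gB hv.2⟩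
    · exact (act_mem_eig X.π X.ψ (pow_ne_zero _ hw0) gS 0 v).2 (by rw [mul_zero]; exact hv.1.1.2)
    · exact (act_mem_eig X.π X.ψ hw0 gP 0 v).2 (by rw [mul_zero]; exact hv.1.2)
  refine ⟨a, b, c, ha, hb, hc, ?_⟩
  -- the three kinds of blocks
  have proj2 : ∀ (x y : F → G) (hx : OnePar x) (hy : OnePar y) (hxy : ∀ t u, Commute (x t) (y u)) (d e : F),
      LinearMap.IsProj (X.E x d ⊓ X.E y e) (avg X.π X.ψ x d * avg X.π X.ψ y e) := by
    intro x y hx hy hxy d e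
    refine ⟨fun v => ⟨avg_mem_eig X.π X.ψ hx _ _,
      avg_mem X.π X.ψ (X.inv_comm hxy e) d (avg_mem_eig X.π X.ψ hy _ _)⟩, fun v hv => ?_⟩
    rw [Module.End.mul_apply, avg_of_mem X.π X.ψ X.hψ hv.2, if_pos rfl, avg_of_mem X.π X.ψ X.hψ hv.1, if_pos rfl]
  have blockZ : ∀ z l : F, z ≠ 0 → LinearMap.trace ℂ V
      (X.π g * (avg X.π X.ψ X.D.Z z * avg X.π X.ψ X.D.L l)) = a := by
    intro z l hz
    rw [trace_moved X.π X.ψ X.hψ X.D.addP hw0 hw1 gP _
      ((act_avg_commute X.π X.ψ gZ z).mul_right (act_avg_commute X.π X.ψ gL l))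
      (fun d => (avg_commute X.π X.ψ (fun t u => (X.D.cPZ u t).symm) z d).mul_left
        (avg_commute X.π X.ψ (fun t u => (X.D.cPL u t).symm) l d)),
      trace_scal X.π (W := X.T 0 l z) (η := a) ?_ ?_, X.T_eq h3 0 l hz, hm, Nat.cast_one, mul_one]
    · refine ⟨fun v => ⟨⟨?_, ?_⟩, avg_mem_eig X.π X.ψ X.D.addZ _ _⟩, fun v hv => ?_⟩
      · exact avg_mem X.π X.ψ (X.inv_comm' X.D.cPZ 0) z (avg_mem X.π X.ψ (X.inv_comm' X.D.cPL 0) l
          (avg_mem_eig X.π X.ψ X.D.addP 0 v))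
      · exact avg_mem X.π X.ψ (X.inv_comm' X.D.cLZ l) z (avg_mem_eig X.π X.ψ X.D.addL l _)
      · rw [Module.End.mul_apply, Module.End.mul_apply, avg_of_mem X.π X.ψ X.hψ hv.1.1, if_pos rfl,
          avg_of_mem X.π X.ψ X.hψ hv.1.2, if_pos rfl, avg_of_mem X.π X.ψ X.hψ hv.2, if_pos rfl]
    · have h1 : Scal X.π g a (X.T 0 0 z) := by
        refine hsa.move (gtor (Units.mk0 z hz) (Units.mk0 z hz)⁻¹) fun v hv => ?_
        obtain ⟨⟨hP, hL⟩, hZ⟩ := hv
        refine ⟨⟨(act_mem_eig X.π X.ψ (x := X.D.P) (κ := z * z⁻¹) ?_ ?_ 0 v).2 (by rwa [mul_zero]),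
          (act_mem_eig X.π X.ψ (x := X.D.L) (κ := z ^ 3 * z⁻¹) ?_ ?_ 0 v).2 (by rwa [mul_zero])⟩,
          (act_mem_eig X.π X.ψ (x := X.D.Z) (κ := z) hz ?_ 1 v).2 (by rwa [mul_one])⟩
        · exact mul_ne_zero hz (inv_ne_zero hz)
        · intro t; rw [X.D.torP]; simp
        · exact mul_ne_zero (pow_ne_zero _ hz) (inv_ne_zero hz)
        · intro t; rw [X.D.torL]; simp
        · intro t
          rw [X.D.torZ, Units.val_inv_eq_inv_val, Units.val_mk0, show z ^ 3 * z⁻¹ ^ 2 * t = z * t by field_simp]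
      refine h1.move (gB (l / z)) fun v hv => ?_
      have := X.B_mem_T (l / z) hv
      rwa [div_mul_cancel₀ l hz, sub_self] at this
  have blockL : ∀ l : F, l ≠ 0 → LinearMap.trace ℂ V
      (X.π g * (avg X.π X.ψ X.D.Z 0 * avg X.π X.ψ X.D.L l)) = b := by
    intro l hl
    rw [trace_moved X.π X.ψ X.hψ X.D.addS (pow_ne_zero 2 hw0) hw2 gS _
      ((act_avg_commute X.π X.ψ gZ 0).mul_right (act_avg_commute X.π X.ψ gL l))
      (fun d => (avg_commute X.π X.ψ (fun t u => (X.D.cSZ u t).symm) 0 d).mul_left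
        (avg_commute X.π X.ψ (fun t u => (X.D.cSL u t).symm) l d)),
      trace_scal X.π (W := X.E X.D.Z 0 ⊓ X.E X.D.L l ⊓ X.E X.D.S 0) (η := b) ?_ ?_, X.finrank_S h3 0 hl, hm,
      Nat.cast_one, mul_one]
    · refine ⟨fun v => ⟨⟨avg_mem_eig X.π X.ψ X.D.addZ _ _, ?_⟩, ?_⟩, fun v hv => ?_⟩
      · exact avg_mem X.π X.ψ (X.inv_comm' X.D.cLZ l) 0 (avg_mem_eig X.π X.ψ X.D.addL l _)
      · exact avg_mem X.π X.ψ (X.inv_comm' X.D.cSZ 0) 0 (avg_mem X.π X.ψ (X.inv_comm' X.D.cSL 0) l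
          (avg_mem_eig X.π X.ψ X.D.addS 0 v))
      · rw [Module.End.mul_apply, Module.End.mul_apply, avg_of_mem X.π X.ψ X.hψ hv.2, if_pos rfl,
          avg_of_mem X.π X.ψ X.hψ hv.1.2, if_pos rfl, avg_of_mem X.π X.ψ X.hψ hv.1.1, if_pos rfl]
    · refine hsb.move (gtor 1 (Units.mk0 l hl)) fun v hv => ?_
      obtain ⟨⟨hZ, hL⟩, hS⟩ := hv
      refine ⟨⟨(act_mem_eig X.π X.ψ (x := X.D.Z) (κ := l ^ 2) (pow_ne_zero _ hl) ?_ 0 v).2 (by rwa [mul_zero]),
        (act_mem_eig X.π X.ψ (x := X.D.L) (κ := l) hl ?_ 1 v).2 (by rwa [mul_one])⟩,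
        (act_mem_eig X.π X.ψ (x := X.D.S) (κ := l) hl ?_ 0 v).2 (by rwa [mul_zero])⟩
      · intro t; rw [X.D.torZ]; simp
      · intro t; rw [X.D.torL]; simp
      · intro t; rw [X.D.torS]; simp
  have hsub : X.E X.D.Z 0 ⊓ X.E X.D.L 0 ⊓ X.E X.D.S 0 ⊓ X.E X.D.P 0 = X.E X.D.Z 0 ⊓ X.E X.D.L 0 ∧
      finrank ℂ ↥(X.E X.D.Z 0 ⊓ X.E X.D.L 0) = Fintype.card F - 1 := by
    have h1 : finrank ℂ ↥(X.E X.D.Z 0 ⊓ X.E X.D.L 0 ⊓ X.E X.D.S 0 ⊓ X.E X.D.P 0) = Fintype.card F - 1 := by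
      rw [split X.π X.ψ X.D.addB X.hψ _ (X.inv_B_K 0 0 0), sum_zero_const _ _ fun β hβ => X.K_beta h3 hq hm hβ]
      change finrank ℂ ↥(X.K 0 0 0 0) + _ = _
      rw [hf, zero_add, smul_eq_mul, mul_one]
    have h2 := X.total_ne h3
    have h4 := X.finrank_one h3 hq hm
    rw [hf, add_zero] at h4
    rw [hm, inf_comm (X.E X.D.L 0)] at h2
    obtain ⟨p, hp⟩ : ∃ p, Fintype.card F = p + 1 := ⟨Fintype.card F - 1, by omega⟩
    rw [hp, Nat.add_sub_cancel] at h2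
    rw [hp] at h4
    have h5 : finrank ℂ ↥(X.E X.D.Z 0 ⊓ X.E X.D.L 0) = Fintype.card F - 1 := by
      rw [hp, Nat.add_sub_cancel]
      nlinarith
    exact ⟨Submodule.eq_of_le_of_finrank_eq (inf_le_of_left_le inf_le_left) (h1.trans h5.symm), h5⟩
  have block0 : LinearMap.trace ℂ V (X.π g * (avg X.π X.ψ X.D.Z 0 * avg X.π X.ψ X.D.L 0)) =
      c * ((Fintype.card F : ℂ) - 1) := by
    rw [trace_scal X.π (proj2 X.D.Z X.D.L X.D.addZ X.D.addL (fun t u => (X.D.cLZ u t).symm) 0 0) (η := c) ?_,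
      hsub.2, Nat.cast_sub (by omega), Nat.cast_one]
    intro v hv
    rw [← hsub.1] at hv
    rw [← sum_avg X.π X.ψ X.D.addB X.hψ v, map_sum, Finset.smul_sum]
    refine Finset.sum_congr rfl fun β _ => ?_
    have hK : avg X.π X.ψ X.D.B β v ∈ X.K β 0 0 0 :=
      ⟨avg_mem X.π X.ψ (X.inv_B_K 0 0 0) β hv, avg_mem_eig X.π X.ψ X.D.addB β v⟩
    by_cases hβ : β = 0
    · subst hβ
      rw [show X.K 0 0 0 0 = ⊥ from Submodule.finrank_eq_zero.1 hf, Submodule.mem_bot] at hK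
      rw [hK, map_zero, smul_zero]
    · refine Scal.move hsc (gtor 1 (Units.mk0 β hβ)) (fun w hw => ?_) _ hK
      obtain ⟨⟨⟨⟨hZ, hL⟩, hS⟩, hP⟩, hB⟩ := hw
      refine ⟨⟨⟨⟨(act_mem_eig X.π X.ψ (x := X.D.Z) (κ := β ^ 2) (pow_ne_zero _ hβ) ?_ 0 w).2 (by rwa [mul_zero]),
        (act_mem_eig X.π X.ψ (x := X.D.L) (κ := β) hβ ?_ 0 w).2 (by rwa [mul_zero])⟩,
        (act_mem_eig X.π X.ψ (x := X.D.S) (κ := β) hβ ?_ 0 w).2 (by rwa [mul_zero])⟩,
        (act_mem_eig X.π X.ψ (x := X.D.P) (κ := β) hβ ?_ 0 w).2 (by rwa [mul_zero])⟩,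
        (act_mem_eig X.π X.ψ (x := X.D.B) (κ := β) hβ ?_ 1 w).2 (by rwa [mul_one])⟩
      · intro t; rw [X.D.torZ]; simp
      · intro t; rw [X.D.torL]; simp
      · intro t; rw [X.D.torS]; simp
      · intro t; rw [X.D.torP]; simp
      · intro t; rw [X.D.torB]; simp
  have hsum : ∀ {x : F → G}, OnePar x → ∑ d, avg X.π X.ψ x d = 1 := fun hx => LinearMap.ext fun v => by
    rw [LinearMap.sum_apply, sum_avg X.π X.ψ hx X.hψ, Module.End.one_apply]
  have htot : LinearMap.trace ℂ V (X.π g) =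
      ∑ z, ∑ l, LinearMap.trace ℂ V (X.π g * (avg X.π X.ψ X.D.Z z * avg X.π X.ψ X.D.L l)) := by
    have e : X.π g = ∑ z, ∑ l, X.π g * (avg X.π X.ψ X.D.Z z * avg X.π X.ψ X.D.L l) := by
      simp only [← Finset.mul_sum, hsum X.D.addL, mul_one, hsum X.D.addZ]
    conv_lhs => rw [e]
    simp only [map_sum]
  rw [htot, sum_zero_const _ ((Fintype.card F : ℂ) * a) fun z hz => ?_,
    sum_zero_const _ b fun l hl => blockL l hl, block0]
  · rw [nsmul_eq_mul, nsmul_eq_mul, Nat.cast_sub (by omega), Nat.cast_one]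
    ring
  · rw [Finset.sum_congr rfl fun l _ => blockZ z l hz, Finset.sum_const, Finset.card_univ, nsmul_eq_mul]

open ComplexConjugate in
/-- The degree `q³ - 1` contradicts integrality at the element of order three. -/
theorem no_minus_one [Finite G] [hirr : Representation.IsIrreducible (X.π : Representation ℂ G V)]
    (hq : 5 ≤ Fintype.card F) (hm : X.mh = 1) (hf : finrank ℂ ↥(X.K 0 0 0 0) = 0) {ω : Fˣ}
    (hω : ω ^ 3 = 1) (hω1 : ω ≠ 1)
    (hK : (Subgroup.centralizer ({X.D.tor ω 1} : Set G)).index ∣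
      Fintype.card F ^ 3 * (Fintype.card F ^ 3 + 1)) : False := by
  set q := Fintype.card F with hqdef
  obtain ⟨a, b, c, ha, hb, hc, htr⟩ := X.trace_z h3 hq hm hf hω hω1
  have hk : finrank ℂ V + 1 = q ^ 3 := by have := X.finrank_one h3 hq hm; rw [hf, add_zero] at this; exact this
  have hkC : (finrank ℂ V : ℂ) = (q : ℂ) ^ 3 - 1 := by
    rw [eq_sub_iff_add_eq]; exact_mod_cast hk
  obtain ⟨d, hd⟩ := hK
  set χ := Representation.character (X.π : Representation ℂ G V) (X.D.tor ω 1) with hχ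
  have hχv : χ = ((q : ℂ) - 1) * ((q : ℂ) * a + b + c) := htr
  have hint := Chars.isIntegral_central_value (X.π : Representation ℂ G V) (X.D.tor ω 1)
  have hχint : IsIntegral ℤ χ := Chars.char_isIntegral _ _
  have hdC : ((Subgroup.centralizer ({X.D.tor ω 1} : Set G)).index : ℂ) * (d : ℂ) =
      (q : ℂ) ^ 3 * ((q : ℂ) ^ 3 + 1) := by exact_mod_cast hd.symm
  have h1 := hint.mul (isIntegral_algebraMap (R := ℤ) (A := ℂ) (x := (d : ℤ)))
  have h2 := h1.sub (hχint.mul (isIntegral_algebraMap (R := ℤ) (A := ℂ) (x := ((q : ℤ) ^ 3 + 2))))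
  have hqR : (5 : ℤ) ≤ q := by exact_mod_cast hq
  have hk0 : (q : ℂ) ^ 3 - 1 ≠ 0 := by
    rw [← hkC]; exact_mod_cast (show finrank ℂ V ≠ 0 by
      intro e; rw [e] at hk; have := Nat.le_self_pow (show 3 ≠ 0 by norm_num) q; omega)
  set N : ℕ := q ^ 2 + q + 1 with hN
  set u : ℂ := (q : ℂ) * a + b + c with hu
  have h3' : IsIntegral ℤ (2 * u / (N : ℂ)) := by
    have e : ((Subgroup.centralizer ({X.D.tor ω 1} : Set G)).index : ℂ) * χ / ((finrank ℂ V : ℕ) : ℂ) * (d : ℂ) -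
        χ * ((q : ℂ) ^ 3 + 2) = 2 * u / (N : ℂ) := by
      rw [hkC, hχv]
      have hN0 : (N : ℂ) ≠ 0 := by rw [hN]; exact_mod_cast (show q ^ 2 + q + 1 ≠ 0 by omega)
      have hNq : (N : ℂ) = (q : ℂ) ^ 2 + q + 1 := by rw [hN]; push_cast; ring
      field_simp
      rw [hNq]
      linear_combination (((q : ℂ) ^ 2 + q + 1) * ((q : ℂ) - 1) * u) * hdC
    rw [← e]
    simpa using h2
  have h4 := h3'.mul (Chars.isIntegral_conj h3')
  obtain ⟨n, hn1, hn2, hn3⟩ := cube_norm (q := q) ha hb hc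
  have hn0 : 0 < n := by nlinarith
  lift n to ℕ using hn0.le
  have h5 : IsIntegral ℤ (((4 * n : ℕ) : ℂ) / ((N * N : ℕ) : ℂ)) := by
    have e : 2 * u / (N : ℂ) * conj (2 * u / (N : ℂ)) = ((4 * n : ℕ) : ℂ) / ((N * N : ℕ) : ℂ) := by
      rw [map_div₀, map_mul, Complex.conj_natCast, Complex.conj_ofNat, div_mul_div_comm,
        show (2 : ℂ) * u * (2 * conj u) = 4 * (u * conj u) by ring, hn3]
      push_cast; ring
    rw [← e]; exact h4
  have h6 := Nat.le_of_dvd (by omega) (Chars.dvd_of_isIntegral_div (by positivity) h5)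
  rw [hN] at h6
  have h6' : ((q : ℤ) ^ 2 + q + 1) * ((q : ℤ) ^ 2 + q + 1) ≤ 4 * (n : ℤ) := by exact_mod_cast h6
  nlinarith


end Ctx

end Cfsg.Agent.Lib.G2Deg41
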