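import Cfsg.Agent.Lib.G2Deg41.ThreeBound

/-!
Characteristic three: the dimension is at least `q⁴ + q² + 1`.
-/

set_option autoImplicit false

namespace Cfsg.Agent.Lib.G2Deg41

open Module

theorem dvd_lin_three {q : ℕ} (hq : 9 ≤ q) {k : ℕ} (hk1 : q ^ 4 + q ^ 2 ≤ k + 2) (hk2 : k ≤ q ^ 4 + q ^ 2)
    (h : k ∣ q ^ 6 * (q ^ 6 - 1) * (q ^ 2 - 1)) : False := by
  have h' : (k : ℤ) ∣ ((q : ℤ) ^ 6 * ((q : ℤ) ^ 6 - 1) * ((q : ℤ) ^ 2 - 1)) := by
    have := Int.natCast_dvd_natCast.2 h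
    push_cast [Nat.cast_sub (Nat.one_le_pow 6 q (by omega)), Nat.cast_sub (Nat.one_le_pow 2 q (by omega))] at this
    exact this
  have h81 : 81 ≤ q ^ 2 := by nlinarith
  set u : ℕ := q ^ 2 with hu
  have e4 : q ^ 4 = u * u := by rw [hu]; ring
  have hu' : (q : ℤ) ^ 2 = u := by rw [hu]; push_cast; ring
  have e6 : (q : ℤ) ^ 6 = (u : ℤ) ^ 3 := by rw [← hu']; ring
  rw [e6, hu'] at h'
  rw [e4] at hk1 hk2
  rcases (show k + 2 = u * u + u ∨ k + 1 = u * u + u ∨ k = u * u + u by omega) with hcase | hcase | hcase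
  all_goals clear hk1 hk2
  · have hd : ((u : ℤ) + 2) ∣ -216 := by
      have hk : (k : ℤ) = ((u : ℤ) + 2) * ((u : ℤ) - 1) := by
        have := congrArg (fun n : ℕ => (n : ℤ)) hcase
        push_cast at this; linarith
      have h2 := dvd_trans (hk ▸ Dvd.intro _ rfl) h'
      have : ((u : ℤ) + 2) ∣ (u : ℤ) ^ 3 * ((u : ℤ) ^ 3 - 1) * ((u : ℤ) - 1) + 216 :=
        ⟨(u : ℤ) ^ 6 - 3 * u ^ 5 + 6 * u ^ 4 - 13 * u ^ 3 + 27 * u ^ 2 - 54 * u + 108, by ring⟩
      simpa using dvd_sub h2 this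
    have hle : u + 2 ≤ 216 := by
      have := Int.le_of_dvd (by norm_num) (dvd_neg.1 hd)
      omega
    have hd' : u + 2 ∣ 216 := by exact_mod_cast dvd_neg.1 hd
    have : q ≤ 14 := by nlinarith
    interval_cases q <;> simp_all
  · have hk : (k : ℤ) = (u : ℤ) ^ 2 + u - 1 := by
      have := congrArg (fun n : ℕ => (n : ℤ)) hcase
      push_cast at this; linarith
    have hd : (k : ℤ) ∣ 26 * (u : ℤ) - 16 := by
      have : (k : ℤ) ∣ (u : ℤ) ^ 3 * ((u : ℤ) ^ 3 - 1) * ((u : ℤ) - 1) - (26 * (u : ℤ) - 16) :=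
        ⟨(u : ℤ) ^ 5 - 2 * u ^ 4 + 3 * u ^ 3 - 6 * u ^ 2 + 10 * u - 16, by rw [hk]; ring⟩
      simpa using dvd_sub h' this
    have := Int.le_of_dvd (by omega) hd
    nlinarith
  · have hd : ((u : ℤ) + 1) ∣ -4 := by
      have h2 : ((u : ℤ) + 1) ∣ (k : ℤ) := ⟨u, by rw [hcase]; push_cast; ring⟩
      have : ((u : ℤ) + 1) ∣ (u : ℤ) ^ 3 * ((u : ℤ) ^ 3 - 1) * ((u : ℤ) - 1) + 4 :=
        ⟨(u : ℤ) ^ 6 - 2 * u ^ 5 + 2 * u ^ 4 - 3 * u ^ 3 + 4 * u ^ 2 - 4 * u + 4, by ring⟩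
      simpa using dvd_sub (dvd_trans h2 h') this
    have := Int.le_of_dvd (by norm_num) (dvd_neg.1 hd)
    omega

variable {F G V : Type*} [Field F] [Fintype F] [Group G] [AddCommGroup V] [Module ℂ V] [FiniteDimensional ℂ V]

namespace Ctx

variable (X : Ctx F G V) (h3 : (3 : F) = 0)
include h3

/-- The fixed space of `P S L Z` is large when all multiplicities are one. -/
theorem z_bound (hq : 9 ≤ Fintype.card F) (hL : ∀ l : F, l ≠ 0 → X.M 0 0 l 0 = Fintype.card F)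
    (hS : ∀ s : F, s ≠ 0 → X.M s 0 0 0 = Fintype.card F) :
    2 * (Fintype.card F - 1) ≤ X.M 0 0 0 0 := by
  classical
  set q := Fintype.card F with hqdef
  set n : F → F → ℕ := fun α β => finrank ℂ ↥(X.R 0 0 0 0 ⊓ X.E X.D.A α ⊓ X.E X.D.B β) with hn
  have invB : ∀ α, Inv X.π X.D.B (X.R 0 0 0 0 ⊓ X.E X.D.A α) := fun α t v hv => by
    simpa using X.B_mem_A h3 t hv
  have invA : ∀ β, Inv X.π X.D.A (X.R 0 0 0 0 ⊓ X.E X.D.B β) := fun β t v hv => by
    simpa using X.A_mem_B h3 t hv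
  have rowB : ∀ β : F, β ≠ 0 → finrank ℂ ↥(X.R 0 0 0 0 ⊓ X.E X.D.B β) = 1 := fun β hβ => by
    have h := X.M_L_eq h3 (neg_ne_zero.2 hβ)
    rw [hL _ (neg_ne_zero.2 hβ)] at h
    rw [← X.finrank_comap' X.D.na (X.R 0 0 0 0 ⊓ X.E X.D.B β)]
    refine (Ctx.fr_congr ?_).trans ((Nat.mul_eq_left (by omega)).1 h.symm)
    simp only [R, Submodule.comap_inf]
    rw [X.comap_neg X.D.na_S, X.comap_one X.D.na_P, X.comap_one X.D.na_B, X.comap_one X.D.na_Z,
      X.comap_neg X.D.na_L, neg_zero]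
    simp only [Ctx.E]
    ac_rfl
  have colA : ∀ α : F, α ≠ 0 → finrank ℂ ↥(X.R 0 0 0 0 ⊓ X.E X.D.A α) = 1 := fun α hα => by
    have h := X.M_S_eq h3 (neg_ne_zero.2 hα)
    rw [hS _ (neg_ne_zero.2 hα)] at h
    rw [← X.finrank_comap' X.D.nb (X.R 0 0 0 0 ⊓ X.E X.D.A α)]
    refine (Ctx.fr_congr ?_).trans ((Nat.mul_eq_left (by omega)).1 h.symm)
    simp only [R, Submodule.comap_inf]
    rw [X.comap_one X.D.nb_A, X.comap_one X.D.nb_S, X.comap_neg X.D.nb_Z, X.comap_one X.D.nb_L,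
      X.comap_neg X.D.nb_P, neg_zero]
    simp only [Ctx.E]
    ac_rfl
  have hrow : ∀ β, finrank ℂ ↥(X.R 0 0 0 0 ⊓ X.E X.D.B β) = ∑ α, n α β := fun β => by
    rw [split X.π X.ψ X.D.addA X.hψ _ (invA β)]
    exact Finset.sum_congr rfl fun α _ => Ctx.fr_congr (inf_right_comm _ _ _)
  have hcol : ∀ α, finrank ℂ ↥(X.R 0 0 0 0 ⊓ X.E X.D.A α) = ∑ β, n α β := fun α =>
    split X.π X.ψ X.D.addB X.hψ _ (invB α)
  have htor : ∀ a b : F, a ≠ 0 → b ≠ 0 → n a b = n 1 1 := fun a b ha hb => by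
    simp only [n]
    rw [← X.finrank_comap' (X.D.tor (Units.mk0 a ha) (Units.mk0 b hb)) (X.R 0 0 0 0 ⊓ X.E X.D.A 1 ⊓ X.E X.D.B 1)]
    refine Ctx.fr_congr ?_
    simp only [R, Submodule.comap_inf]
    rw [X.comap_E (κ := a) ha (X.D.torA (Units.mk0 a ha) (Units.mk0 b hb)), X.comap_E (κ := b) hb (X.D.torB (Units.mk0 a ha) (Units.mk0 b hb)),
      X.comap_E (κ := a * b) (mul_ne_zero ha hb) (X.D.torP (Units.mk0 a ha) (Units.mk0 b hb)),
      X.comap_E (κ := a ^ 2 * b) (mul_ne_zero (pow_ne_zero _ ha) hb) (X.D.torS (Units.mk0 a ha) (Units.mk0 b hb)),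
      X.comap_E (κ := a ^ 3 * b) (mul_ne_zero (pow_ne_zero _ ha) hb) (X.D.torL (Units.mk0 a ha) (Units.mk0 b hb)),
      X.comap_E (κ := a ^ 3 * b ^ 2) (mul_ne_zero (pow_ne_zero _ ha) (pow_ne_zero _ hb)) (X.D.torZ (Units.mk0 a ha) (Units.mk0 b hb))]
    simp
  -- the regular characters do not occur
  have hn0 : n 1 1 = 0 := by
    by_contra hne
    have h1 := hrow 1
    rw [rowB 1 one_ne_zero, sum_zero_const _ _ (fun a ha => htor a 1 ha one_ne_zero), smul_eq_mul] at h1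
    have : (Fintype.card F - 1) * 1 ≤ (Fintype.card F - 1) * n 1 1 :=
      Nat.mul_le_mul_left _ (Nat.one_le_iff_ne_zero.2 hne)
    omega
  have hA0 : ∀ a : F, a ≠ 0 → n a 0 = 1 := fun a ha => by
    have h1 := hcol a
    rw [colA a ha, sum_zero_const _ _ (fun b hb => (htor a b ha hb).trans hn0), smul_zero, add_zero] at h1
    exact h1.symm
  rw [M, split X.π X.ψ X.D.addB X.hψ _ X.inv_B_R, sum_zero_const _ _ rowB, hrow 0,
    sum_zero_const _ _ hA0, smul_eq_mul]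
  omega

/-- The bound in characteristic three. -/
theorem three_bound (hq : 9 ≤ Fintype.card F) (hZ : X.π (X.D.Z 1) ≠ 1)
    (hdvd : finrank ℂ V ∣ Fintype.card F ^ 6 * (Fintype.card F ^ 6 - 1) * (Fintype.card F ^ 2 - 1)) :
    Fintype.card F ^ 4 + Fintype.card F ^ 2 + 1 ≤ finrank ℂ V := by
  classical
  set q := Fintype.card F with hqdef
  obtain ⟨p, hp⟩ : ∃ p, q = p + 1 := ⟨q - 1, by omega⟩
  have hp' : p = Fintype.card F - 1 := by omega
  have hk := X.total_eq h3 p hp'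
  rcases lt_trichotomy X.mu 1 with hmu | hmu | hmu
  · -- no general character: `Z` would act trivially
    exfalso
    have hmu0 : X.mu = 0 := by omega
    have hnu := X.nu_eq_zero h3 hq hmu0
    have hz : ∀ c : F, c ≠ 0 → finrank ℂ ↥(X.E X.D.Z c) = 0 := fun c hc => by
      rw [X.finrank_Z h3 c]
      refine Finset.sum_eq_zero fun s2 _ => Finset.sum_eq_zero fun s1 _ => Finset.sum_eq_zero fun l _ => ?_
      by_cases hs : s1 ≠ 0 ∨ s2 ≠ 0
      · rw [X.M_gen h3 l hs hc, hmu0]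
      · push Not at hs
        rw [hs.1, hs.2, X.M_nu l hc, hnu]
    refine hZ (LinearMap.ext fun v => ?_)
    have hv := sum_avg X.π X.ψ X.D.addZ X.hψ v
    rw [Finset.sum_eq_single (0 : F) (fun c _ hc => ?_) (fun h => absurd (Finset.mem_univ _) h)] at hv
    · rw [← hv]
      exact (eig_zero X.π X.ψ).1 (avg_mem_eig X.π X.ψ X.D.addZ 0 v) 1
    · have := avg_mem_eig X.π X.ψ X.D.addZ c v
      rwa [show eig X.π X.ψ X.D.Z c = ⊥ from Submodule.finrank_eq_zero.1 (hz c hc), Submodule.mem_bot] at this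
  · by_cases hnu : 4 ≤ X.nu
    · rw [hk, hmu, hp]
      have e1 := Nat.mul_le_mul_left (p * (p + 1)) hnu
      have e2 := Nat.mul_le_mul_left p hnu
      have e3 := Nat.zero_le (p * (p + 1) * X.nu')
      have e4 := Nat.zero_le (∑ s, X.M s 0 0 0)
      have e5 : 8 * p ≤ p * p := Nat.mul_le_mul_right p (by omega)
      nlinarith
    · push Not at hnu
      have hmix : ∀ s l : F, s ≠ 0 → l ≠ 0 → X.M s 0 l 0 = 0 := fun s l hs hl => X.mixed_zero h3 hq hmu hnu hs hl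
      have hL : ∀ l : F, l ≠ 0 → X.M 0 0 l 0 = X.nu + p := fun l hl => by
        have h := X.col_L h3 hl
        rw [sum_zero_const (F := F) (fun s => X.M s 0 l 0) 0 (fun s hs => hmix s l hs hl), smul_zero, add_zero,
          hmu, mul_one, ← hp'] at h
        exact h
      have hS : ∀ s : F, s ≠ 0 → X.M s 0 0 0 = X.nu' + p := fun s hs => by
        have h := X.row_S h3 hs
        rw [sum_zero_const (F := F) (fun l => X.M s 0 l 0) 0 (fun l hl => hmix s l hs hl), smul_zero, add_zero,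
          hmu, mul_one, ← hp'] at h
        exact h
      have hnu1 : X.nu = 1 := by
        obtain ⟨c, hc⟩ : q ∣ X.nu + p := by
          rw [← hL 1 one_ne_zero, X.M_L_eq h3 one_ne_zero]; exact Dvd.intro _ rfl
        rcases c with _ | _ | c
        · omega
        · omega
        · exfalso; rw [Nat.mul_add, Nat.mul_add] at hc; omega
      have hnu'1 : 1 ≤ X.nu' := by
        by_contra hcon
        obtain ⟨c, hc⟩ : q ∣ X.nu' + p := by
          rw [← hS 1 one_ne_zero, X.M_S_eq h3 one_ne_zero]; exact Dvd.intro _ rfl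
        rcases c with _ | c
        · omega
        · rw [Nat.mul_add] at hc; omega
      have hsum : ∑ s, X.M s 0 0 0 = X.M 0 0 0 0 + p * (X.nu' + p) := by
        rw [sum_zero_const (F := F) (fun s => X.M s 0 0 0) _ hS, smul_eq_mul, ← hp']
      rw [hmu, hnu1, hsum] at hk
      by_cases h2 : 2 ≤ X.nu'
      · rw [hk, hp]
        nlinarith [Nat.mul_le_mul_left (p * (p + 1)) h2, Nat.mul_le_mul_left p h2]
      · have hnu'e : X.nu' = 1 := by omega
        have hz := X.z_bound h3 hq (fun l hl => by rw [hL l hl, hnu1]; omega)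
          (fun s hs => by rw [hS s hs, hnu'e]; omega)
        rw [hnu'e] at hk
        by_contra hlt
        push Not at hlt
        refine dvd_lin_three hq ?_ (by omega) hdvd
        rw [hk, hp]
        rw [← hp', ← hqdef] at *
        nlinarith
  · rw [hk, hp]
    have e1 := Nat.mul_le_mul_left (p ^ 4 + 4 * p ^ 3 + 4 * p ^ 2) (show 2 ≤ X.mu from hmu)
    have e2 := Nat.zero_le (p * (p + 1) * X.nu + p * (p + 1) * X.nu' + p * X.nu + ∑ s, X.M s 0 0 0)
    have e5 : 8 * p ≤ p * p := Nat.mul_le_mul_right p (by omega)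
    have e6 := Nat.zero_le (p ^ 4)
    have e7 := Nat.zero_le (p ^ 3)
    nlinarith

end Ctx

end Cfsg.Agent.Lib.G2Deg41
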