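import Cfsg.Agent.Lib.G2Deg41.Cells
import Cfsg.Agent.Lib.G2Deg41.Order
import Cfsg.Agent.Lib.G2Deg41.ThreeMain
import Cfsg.Agent.Lib.G2SL3.Embedding
import Cfsg.Agent.Lib.Chev.Perfect
import Cfsg.Agent.Lib.LinGroup.Order

/-!
The bounds for the group of type G₂.
-/

set_option autoImplicit false

namespace Cfsg.Agent.Lib.G2Deg41

open Cfsg.Lie Cfsg.Agent.Lib.Chev Cfsg.Agent.Lib.ChevOver Module

variable (F : Type*) [Field F] [Fintype F]

theorem card_G2 : Nat.card (Gr F) = Fintype.card F ^ 6 * (Fintype.card F ^ 6 - 1) * (Fintype.card F ^ 2 - 1) := by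
  have h := rooted_G2.card_group_mul (F := F) G2.smith_ok G2.chain_ok G2.poly_ok
  have hd : (∏ i : Fin chevG2.rank, (Fintype.card F - 1).gcd (([1, 1] : List ℕ).getD i.val 0)) = 1 := by
    show (∏ i : Fin 2, _) = _
    simp [Fin.prod_univ_succ]
  rw [hd, one_mul, show chevG2.nroots / 2 = 6 from rfl] at h
  rw [h]
  simp [G2.degs]; ring

theorem dim_not_cube (k : ℕ) (P : ℂ) (hq : 5 ≤ Fintype.card F) (hk : k = Fintype.card F ^ 3)
    (hP : (Fintype.card F : ℂ) * P = 0 ∨ (Fintype.card F : ℂ) * P = (Fintype.card F : ℂ) ∨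
      (Fintype.card F : ℂ) * ((Fintype.card F : ℂ) * P) = 1)
    (h : (k : ℂ) * (∑ j, (Fintype.card F : ℂ) ^ wdLen j * P ^ (wd j).count 1) =
      ∑ j, (Fintype.card F : ℂ) ^ wdLen j) : False := by
  set q := Fintype.card F with hqdef
  have hq0 : (q : ℂ) ≠ 0 := Nat.cast_ne_zero.2 (by omega)
  simp only [Fin.sum_univ_succ, Fin.sum_univ_zero, wdLen, wd, Matrix.cons_val_zero, Matrix.cons_val_succ] at h
  simp [List.count_cons] at h
  rw [hk] at h
  push_cast at h
  rcases hP with e | e | e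
  · obtain rfl : P = 0 := (mul_eq_zero.1 e).resolve_left hq0
    have h' : (q : ℕ) ^ 3 + q ^ 4 = 1 + 2 * q + 2 * q ^ 2 + 2 * q ^ 3 + 2 * q ^ 4 + 2 * q ^ 5 + q ^ 6 := by
      have : (q : ℂ) ^ 3 + (q : ℂ) ^ 4 = 1 + 2 * q + 2 * (q : ℂ) ^ 2 + 2 * (q : ℂ) ^ 3 + 2 * (q : ℂ) ^ 4 +
          2 * (q : ℂ) ^ 5 + (q : ℂ) ^ 6 := by
        linear_combination h
      exact_mod_cast this
    nlinarith [Nat.zero_le (q ^ 3), Nat.zero_le (q ^ 4), Nat.zero_le (q ^ 5), Nat.zero_le (q ^ 6)]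
  · obtain rfl : P = 1 := mul_left_cancel₀ hq0 (e.trans (mul_one _).symm)
    have h' : (q : ℕ) ^ 3 * (1 + 2 * q + 2 * q ^ 2 + 2 * q ^ 3 + 2 * q ^ 4 + 2 * q ^ 5 + q ^ 6) =
        1 + 2 * q + 2 * q ^ 2 + 2 * q ^ 3 + 2 * q ^ 4 + 2 * q ^ 5 + q ^ 6 := by
      have : (q : ℂ) ^ 3 * (1 + 2 * q + 2 * (q : ℂ) ^ 2 + 2 * (q : ℂ) ^ 3 + 2 * (q : ℂ) ^ 4 + 2 * (q : ℂ) ^ 5 +
          (q : ℂ) ^ 6) = 1 + 2 * q + 2 * (q : ℂ) ^ 2 + 2 * (q : ℂ) ^ 3 + 2 * (q : ℂ) ^ 4 + 2 * (q : ℂ) ^ 5 +
          (q : ℂ) ^ 6 := by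
        linear_combination h
      exact_mod_cast this
    have h8 : q ^ 3 = 1 := Nat.eq_of_mul_eq_mul_right (by positivity) (h'.trans (one_mul _).symm)
    have := Nat.le_self_pow (show 3 ≠ 0 by norm_num) q
    omega
  · obtain rfl : P = ((q : ℂ) ^ 2)⁻¹ := eq_inv_of_mul_eq_one_right (by linear_combination e)
    have h' : q ^ 3 * (3 * (q + 1) ^ 2) = q * (1 + 2 * q + 2 * q ^ 2 + 2 * q ^ 3 + 2 * q ^ 4 + 2 * q ^ 5 + q ^ 6) := by
      have : (q : ℂ) ^ 3 * (3 * ((q : ℂ) + 1) ^ 2) = (q : ℂ) * (1 + 2 * q + 2 * (q : ℂ) ^ 2 + 2 * (q : ℂ) ^ 3 +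
          2 * (q : ℂ) ^ 4 + 2 * (q : ℂ) ^ 5 + (q : ℂ) ^ 6) := by
        field_simp at h
        linear_combination (q : ℂ) * h
      exact_mod_cast this
    have h9 : 25 ≤ q * q := Nat.mul_le_mul hq hq
    nlinarith [Nat.mul_le_mul_right (q ^ 5) hq, Nat.mul_le_mul_right (q ^ 3) h9]

variable {V : Type*} [AddCommGroup V] [Module ℂ V] [FiniteDimensional ℂ V]

/-- The degree `q³` does not occur with one component. -/
theorem no_cube [Finite (Gr F)] (X : Ctx F (Gr F) V) (hXD : X.D = data F) (h3 : (3 : F) ≠ 0)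
    [hirr : Representation.IsIrreducible (X.π : Representation ℂ (Gr F) V)] (hq : 5 ≤ Fintype.card F)
    (hm : X.mh = 1) (hf : finrank ℂ ↥(X.K 0 0 0 0) = 1) : False := by
  classical
  haveI : Fintype (Gr F) := Fintype.ofFinite _
  obtain ⟨L, hna, htr⟩ := X.exists_line h3 hq hf
  set Φ : Gr F → ℂ := fun g => L.phi g * L.phi g⁻¹ with hΦdef
  set E := avgG X.π X.D.U with hE
  have hcomm : ∀ h : Gr F, (∑ g, X.π g * E * X.π g⁻¹) ∘ₗ X.π h = X.π h ∘ₗ ∑ g, X.π g * E * X.π g⁻¹ := fun h => by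
    simp only [← Module.End.mul_eq_comp, Finset.sum_mul, Finset.mul_sum]
    refine (Fintype.sum_equiv (Equiv.mulLeft h) _ _ fun g => ?_).symm
    simp only [Equiv.coe_mulLeft, mul_inv_rev, map_mul, mul_assoc]
    rw [← map_mul X.π h⁻¹ h, inv_mul_cancel, map_one, mul_one]
  obtain ⟨c, hc⟩ := Chars.exists_scalar_of_commute (X.π : Representation ℂ (Gr F) V) _ hcomm
  have hck : (Fintype.card (Gr F) : ℂ) = c * (finrank ℂ V : ℂ) := by
    have h := congrArg (LinearMap.trace ℂ V) hc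
    rw [map_sum, map_smul, LinearMap.trace_one, smul_eq_mul] at h
    rw [← h, Finset.sum_congr rfl (g := fun _ => (1 : ℂ)) fun g _ => ?_, Finset.sum_const, Finset.card_univ,
      nsmul_eq_mul, mul_one]
    rw [LinearMap.trace_mul_comm, ← mul_assoc, ← map_mul, inv_mul_cancel, map_one, one_mul, htr]
  have hcsum : ∑ g, Φ g = c := by
    have h := congrArg (fun T : Module.End ℂ V => L.eps (T L.f)) hc
    simp only [LinearMap.sum_apply, map_sum, LinearMap.smul_apply, Module.End.one_apply, map_smul, L.eps_f,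
      smul_eq_mul, mul_one] at h
    rw [← h]
    refine Finset.sum_congr rfl fun g _ => ?_
    rw [Module.End.mul_apply, Module.End.mul_apply, L.avg_eq, map_smul, map_smul, smul_eq_mul, mul_comm]
    rfl
  have hcell := sum_cells F Φ fun b n u hb hu => by
    obtain ⟨u₀, hu₀, a', b', rfl⟩ := hb
    rw [← hXD] at hu₀ hu ⊢
    exact L.phi_prod u₀ u hu₀ hu a' b' n
  have hone := sum_cells F (fun _ => (1 : ℂ)) fun _ _ _ _ _ => rfl
  simp only [mul_one, Finset.sum_const, Finset.card_univ, nsmul_eq_mul] at hone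
  have hval : ∀ j, Φ (nW F (wd j) (isWord_wd j)) =
      (L.phi X.D.nb * L.phi X.D.nb⁻¹) ^ (wd j).count 1 := fun j => by
    have h1 := (phi_word F L hXD hna (wd j) (isWord_wd j)).1 (wd_ok j).2.1
    have h2 := (phi_word F L hXD hna (wd j).reverse (isWord_wd j).reverse).2
      (by rw [List.reverse_reverse]; exact isWord_wd j) (wd_ok j).2.2
    have e : nW F (wd j).reverse.reverse (by rw [List.reverse_reverse]; exact isWord_wd j) =
        nW F (wd j) (isWord_wd j) := Subtype.ext (by simp [nW])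
    rw [e, List.count_reverse] at h2
    simp only [Φ, h1, h2, mul_pow]
  rw [hcsum, Finset.sum_congr rfl fun j _ => by rw [hval j]] at hcell
  have hB : (Nat.card ↥(chevG2.borelSubgroup F) : ℂ) ≠ 0 := Nat.cast_ne_zero.2 Nat.card_pos.ne'
  have hk : finrank ℂ V = Fintype.card F ^ 3 := by have := X.finrank_one h3 hq hm; omega
  have hP := L.gamma_cases hna (by rw [hXD]; exact nb_B_nb F) (by rw [hXD]; exact nb_inv_borel F)
  refine dim_not_cube F (finrank ℂ V) _ hq hk hP (mul_left_cancel₀ hB ?_)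
  rw [← hone, hck, hcell]
  ring

theorem cent_index {ω : Fˣ} (hω : ω ^ 3 = 1) :
    (Subgroup.centralizer ({(data F).tor ω 1} : Set (Gr F))).index ∣
      Fintype.card F ^ 3 * (Fintype.card F ^ 3 + 1) := by
  classical
  haveI : Finite (Gr F) := Subtype.finite
  set q := Fintype.card F with hqdef
  have hq2 : 2 ≤ q := Fintype.one_lt_card
  let e : Matrix.SpecialLinearGroup (Fin 3) F →* Gr F := (G2SL3.emb F).codRestrict (chevG2.group F) G2SL3.emb_mem
  have hroot : ∀ r ∈ [0, 1, 5, 6, 10, 11], ∀ t : F,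
      (data F).tor ω 1 * xr F r t = xr F r t * (data F).tor ω 1 := fun r hr t => by
    have hr12 : r < chevG2.nroots := by
      simp only [List.mem_cons, List.not_mem_nil, or_false] at hr
      show r < 12; omega
    have hc : torusFun chevG2 (torC F ω 1) r = 1 := by
      rw [torFun_coef F ω 1 hr12, one_zpow, mul_one]
      have h3z : ω ^ (3 : ℤ) = 1 := by rw [show (3 : ℤ) = ((3 : ℕ) : ℤ) from rfl, zpow_natCast, hω]
      simp only [List.mem_cons, List.not_mem_nil, or_false] at hr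
      rcases hr with rfl | rfl | rfl | rfl | rfl | rfl
      · rw [show coef chevG2 C2 0 0 = -3 by decide +kernel, zpow_neg, h3z, inv_one]
      · rw [show coef chevG2 C2 0 1 = -3 by decide +kernel, zpow_neg, h3z, inv_one]
      · rw [show coef chevG2 C2 0 5 = 0 by decide +kernel, zpow_zero]
      · rw [show coef chevG2 C2 0 6 = 0 by decide +kernel, zpow_zero]
      · rw [show coef chevG2 C2 0 10 = 3 by decide +kernel, h3z]
      · rw [show coef chevG2 C2 0 11 = 3 by decide +kernel, h3z]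
    have := torG_conj F hr12 ω 1 t hc
    rw [Units.val_one, one_mul] at this
    exact this
  have hle : e.range ≤ Subgroup.centralizer ({(data F).tor ω 1} : Set (Gr F)) := by
    rintro _ ⟨A, rfl⟩
    rw [Subgroup.mem_centralizer_singleton_iff]
    refine LinGroup.SL_transvection_induction (fun A => e A * (data F).tor ω 1 = (data F).tor ω 1 * e A) ?_ ?_ ?_ A
    · simp
    · intro i j hij c
      obtain ⟨r, hr⟩ : ∃ r : Fin chevG2.nroots, (i, j, r) ∈ G2SL3.longPairs := by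
        revert hij; revert i j; decide +kernel
      have hr' : r.val ∈ [0, 1, 5, 6, 10, 11] := by revert hr; revert i j r; decide +kernel
      have he : e (Matrix.SpecialLinearGroup.transvection hij c) = xr F r.val c := by
        refine Subtype.ext (Units.ext ?_)
        show (G2SL3.emb F _ : Matrix chevG2.Idx chevG2.Idx F) = _
        rw [G2SL3.emb_trans hij hr]
        simp [xr, coe_xg, ChevalleyDatum.x]
      rw [he]
      exact (hroot r.val hr' c).symm
    · intro A B hA hB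
      rw [map_mul, mul_assoc, hB, ← mul_assoc, hA, mul_assoc]
  have hinj : Function.Injective e := fun A B h => G2SL3.emb_injective (congrArg Subtype.val h)
  have hdvd : Nat.card (Matrix.SpecialLinearGroup (Fin 3) F) ∣
      Nat.card ↥(Subgroup.centralizer ({(data F).tor ω 1} : Set (Gr F))) := by
    rw [← Nat.card_congr (MonoidHom.ofInjective hinj).symm.toEquiv]
    exact Subgroup.card_dvd_of_le hle
  obtain ⟨d, hd⟩ := hdvd
  have hmul := (Subgroup.centralizer ({(data F).tor ω 1} : Set (Gr F))).card_mul_index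
  rw [hd, card_G2] at hmul
  have hsl := LinGroup.card_SL_mul (F := F) 3 (by norm_num)
  simp only [Fin.prod_univ_three, Fin.val_zero, Fin.val_one, Fin.val_two, pow_zero, pow_one, ← hqdef] at hsl
  set N := Nat.card (Matrix.SpecialLinearGroup (Fin 3) F)
  set K := (Subgroup.centralizer ({(data F).tor ω 1} : Set (Gr F))).index
  refine ⟨d, ?_⟩
  have h1 : 1 ≤ q ^ 6 := Nat.one_le_pow _ _ (by omega)
  have h2 : 1 ≤ q ^ 2 := Nat.one_le_pow _ _ (by omega)
  have h3 : 1 ≤ q ^ 3 := Nat.one_le_pow _ _ (by omega)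
  have h4 : q ≤ q ^ 3 := Nat.le_self_pow (by norm_num) _
  have h5 : q ^ 2 ≤ q ^ 3 := Nat.pow_le_pow_right (by omega) (by norm_num)
  have hN0 : 0 < N := Nat.card_pos
  apply Nat.eq_of_mul_eq_mul_left (show 0 < (q - 1) * N by
    exact Nat.mul_pos (by omega) hN0)
  have e1 : (q - 1) * N * (K * d) = (q - 1) * (q ^ 6 * (q ^ 6 - 1) * (q ^ 2 - 1)) := by
    rw [← hmul]; ring
  rw [e1, hsl]
  zify [h1, h2, h3, h4, h5, show 1 ≤ q by omega]
  ring

end Cfsg.Agent.Lib.G2Deg41
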