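import Cfsg.Agent.Lib.Chev.All
import Cfsg.Agent.Lib.Chev.Bruhat
import Cfsg.Agent.Lib.Chev.RootOrbit
import Cfsg.Agent.Lib.ChevOver.Basic
import Cfsg.Agent.Lib.G2Deg41.Eigen

/-!
The positive root subgroups, the torus and the two fundamental Weyl elements of G₂, with their relations.
-/

set_option autoImplicit false

namespace Cfsg.Agent.Lib.G2Deg41

open Cfsg.Lie Cfsg.Agent.Lib.Chev Cfsg.Agent.Lib.ChevOver

/-- The relations used for G₂: `A` short simple, `B` long simple, `P = a+b`, `S = 2a+b`, `L = 3a+b`,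
`Z = 3a+2b`. -/
structure Data (F G : Type*) [Field F] [Group G] where
  A : F → G
  B : F → G
  P : F → G
  S : F → G
  L : F → G
  Z : F → G
  tor : Fˣ → Fˣ → G
  na : G
  nb : G
  addA : OnePar A
  addB : OnePar B
  addP : OnePar P
  addS : OnePar S
  addL : OnePar L
  addZ : OnePar Z
  BA : ∀ t u, B u * A t =
    A t * B u * (P (t * u) * S (t ^ 2 * u) * L (-(t ^ 3 * u)) * Z (-(t ^ 3 * u ^ 2)))
  AB : ∀ t u, A u * B t =
    B t * A u * (P (-(t * u)) * S (-(t * u ^ 2)) * L (t * u ^ 3) * Z (-(2 * t ^ 2 * u ^ 3)))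
  PA : ∀ t u, P u * A t = A t * P u * (S (2 * t * u) * L (-(3 * t ^ 2 * u)) * Z (-(3 * t * u ^ 2)))
  AP : ∀ t u, A u * P t = P t * A u * (S (-(2 * t * u)) * Z (3 * t ^ 2 * u) * L (3 * t * u ^ 2))
  SA : ∀ t u, S u * A t = A t * S u * L (-(3 * t * u))
  AS : ∀ t u, A u * S t = S t * A u * L (3 * t * u)
  LB : ∀ t u, L u * B t = B t * L u * Z (-(t * u))
  BL : ∀ t u, B u * L t = L t * B u * Z (t * u)
  SP : ∀ t u, S u * P t = P t * S u * Z (-(3 * t * u))
  PS : ∀ t u, P u * S t = S t * P u * Z (3 * t * u)
  cBP : ∀ t u, Commute (B t) (P u)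
  cBS : ∀ t u, Commute (B t) (S u)
  cBZ : ∀ t u, Commute (B t) (Z u)
  cAL : ∀ t u, Commute (A t) (L u)
  cAZ : ∀ t u, Commute (A t) (Z u)
  cPL : ∀ t u, Commute (P t) (L u)
  cPZ : ∀ t u, Commute (P t) (Z u)
  cSL : ∀ t u, Commute (S t) (L u)
  cSZ : ∀ t u, Commute (S t) (Z u)
  cLZ : ∀ t u, Commute (L t) (Z u)
  torA : ∀ (α β : Fˣ) t, tor α β * A t = A ((α : F) * t) * tor α β
  torB : ∀ (α β : Fˣ) t, tor α β * B t = B ((β : F) * t) * tor α β
  torP : ∀ (α β : Fˣ) t, tor α β * P t = P ((α : F) * β * t) * tor α β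
  torS : ∀ (α β : Fˣ) t, tor α β * S t = S ((α : F) ^ 2 * β * t) * tor α β
  torL : ∀ (α β : Fˣ) t, tor α β * L t = L ((α : F) ^ 3 * β * t) * tor α β
  torZ : ∀ (α β : Fˣ) t, tor α β * Z t = Z ((α : F) ^ 3 * (β : F) ^ 2 * t) * tor α β
  tor_mul : ∀ α β α' β' : Fˣ, tor α β * tor α' β' = tor (α * α') (β * β')
  na_B : ∀ t, na * B t = L t * na
  na_L : ∀ t, na * L t = B (-t) * na
  na_P : ∀ t, na * P t = S t * na
  na_S : ∀ t, na * S t = P (-t) * na
  na_Z : ∀ t, na * Z t = Z t * na
  nb_A : ∀ t, nb * A t = P t * nb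
  nb_P : ∀ t, nb * P t = A (-t) * nb
  nb_S : ∀ t, nb * S t = S t * nb
  nb_L : ∀ t, nb * L t = Z t * nb
  nb_Z : ∀ t, nb * Z t = L (-t) * nb
  na_tor : ∀ α β : Fˣ, na * tor α β = tor α⁻¹ (α ^ 3 * β) * na
  nb_tor : ∀ α β : Fˣ, nb * tor α β = tor (α * β) β⁻¹ * nb
  na_word : na = A 1 * (na * A 1 * na⁻¹) * A 1

/-! ### The model -/

abbrev C2 := G2.cert

variable (F : Type*) [Field F]

/-- A root element in the group. -/
def xr (r : ℕ) (t : F) : ↥(chevG2.group F) := ⟨xg rooted_G2 r t, xg_mem_group rooted_G2 r t⟩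

/-- The value of the parameters at the two fundamental coroots. -/
def torC (α β : Fˣ) : ℕ → Fˣ := fun i => if i = 0 then α ^ 2 * β else α ^ 3 * β ^ 2

/-- A torus element. -/
def torG (α β : Fˣ) : ↥(chevG2.group F) :=
  ⟨torusHom chevG2 F (torC F α β), rooted_G2.torusHom_mem_group _⟩

/-- A fundamental Weyl element. -/
noncomputable def nG (i : ℕ) (hi : i < chevG2.rank) : ↥(chevG2.group F) :=
  ⟨nS rooted_G2.toChecked F i, rooted_G2.monomial_le_group (by
    simpa [nProd] using rooted_G2.nProd_mem_monomial (F := F) (L := [i]) (fun j hj => by simp at hj; omega))⟩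

theorem xr_add (r : ℕ) : OnePar (xr F r) := fun s t => Subtype.ext (xg_add rooted_G2 r s t).symm

theorem xr_comm {r s : ℕ} (hr : r < chevG2.nroots) (hs : s < chevG2.nroots) (h1 : s ≠ r)
    (h2 : s ≠ ng chevG2 r) {l : List (ℕ × ℤ × ℕ × ℕ)} (hl : cTerms C2 r s = l) (t u : F) :
    xr F s u * xr F r t = xr F r t * xr F s u *
      (l.map fun c => xr F c.1 ((c.2.1 : F) * (-t) ^ c.2.2.1 * u ^ c.2.2.2)).prod := by
  refine Subtype.ext ((xg_comm rooted_G2 hr hs h1 h2 hl t u).trans ?_)
  simp only [Subgroup.coe_mul, Subgroup.val_list_prod, List.map_map]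
  rfl

theorem xr_commute {r s : ℕ} (hr : r < chevG2.nroots) (hs : s < chevG2.nroots) (h2 : s ≠ ng chevG2 r)
    (hl : cTerms C2 r s = []) (t u : F) : Commute (xr F r t) (xr F s u) :=
  Subtype.ext (xg_commute rooted_G2 hr hs h2 hl t u).eq

theorem torG_mul (α β α' β' : Fˣ) : torG F α β * torG F α' β' = torG F (α * α') (β * β') := by
  refine Subtype.ext ?_
  simp only [torG, Subgroup.coe_mul, ← map_mul]
  congr 1
  funext i
  simp only [Pi.mul_apply, torC]
  split <;> · simp [mul_pow]; ac_rfl

theorem torFun_eq (α β : Fˣ) (r : ℕ) : torusFun chevG2 (torC F α β) r =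
    (α ^ 2 * β) ^ chevG2.cartan 0 r * (α ^ 3 * β ^ 2) ^ chevG2.cartan 1 r := by
  simp [torusFun, show chevG2.rank = 2 from rfl, Finset.prod_range_succ, torC]

theorem torG_conj {r : ℕ} (hr : r < chevG2.nroots) (α β : Fˣ) (t : F) {c : Fˣ}
    (hc : torusFun chevG2 (torC F α β) r = c) : torG F α β * xr F r t = xr F r ((c : F) * t) * torG F α β := by
  refine Subtype.ext ?_
  simp only [Subgroup.coe_mul, torG, xr, xg_eq rooted_G2 hr, ← hc]
  exact mul_inv_eq_iff_eq_mul.1 (rooted_G2.toChecked.conj_x hr t)

theorem nG_conj {i r a : ℕ} (hi : i < chevG2.rank) (hr : r < chevG2.nroots) {e : ℤ}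
    (ha : refl C2 i r = a) (he : eta C2 i r = e) (t : F) :
    nG F i hi * xr F r t = xr F a ((e : F) * t) * nG F i hi := by
  refine Subtype.ext ?_
  simp only [Subgroup.coe_mul, nG, xr, ← ha, ← he, xg_eq rooted_G2 hr,
    xg_eq rooted_G2 (rooted_G2.toChecked.refl_lt hi hr)]
  exact rooted_G2.toChecked.nS_conj_x hi hr t

theorem torFun_coef (α β : Fˣ) {r : ℕ} (hr : r < chevG2.nroots) :
    torusFun chevG2 (torC F α β) r = α ^ coef chevG2 C2 0 r * β ^ coef chevG2 C2 1 r := by
  rw [← rooted_G2.toChecked.chiOf_torus _ hr]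
  simp only [chiOf, show chevG2.rank = 2 from rfl, Finset.prod_range_succ, Finset.prod_range_zero, one_mul,
    torFun_eq, show chevG2.simple 0 = 7 from rfl, show chevG2.simple 1 = 6 from rfl,
    show chevG2.cartan 0 7 = 2 by decide +kernel, show chevG2.cartan 1 7 = -1 by decide +kernel,
    show chevG2.cartan 0 6 = -3 by decide +kernel, show chevG2.cartan 1 6 = 2 by decide +kernel]
  congr 2
  · refine Units.ext ?_; simp; field_simp
  · refine Units.ext ?_; simp [zpow_neg]; field_simp

/-- The reflections on coefficient vectors. -/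
theorem coef_refl : ∀ r : Fin 12,
    (coef chevG2 C2 0 r.val = 3 * coef chevG2 C2 1 (refl C2 0 r.val) - coef chevG2 C2 0 (refl C2 0 r.val) ∧
      coef chevG2 C2 1 r.val = coef chevG2 C2 1 (refl C2 0 r.val)) ∧
    (coef chevG2 C2 0 r.val = coef chevG2 C2 0 (refl C2 1 r.val) ∧
      coef chevG2 C2 1 r.val = coef chevG2 C2 0 (refl C2 1 r.val) - coef chevG2 C2 1 (refl C2 1 r.val)) := by
  decide +kernel

theorem nG_torus {i : ℕ} (hi : i < chevG2.rank) (c c' : ℕ → Fˣ)
    (h : ∀ r < chevG2.nroots, torusFun chevG2 c' (refl C2 i r) = torusFun chevG2 c r) :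
    (nS rooted_G2.toChecked F i) * torusHom chevG2 F c = torusHom chevG2 F c' * nS rooted_G2.toChecked F i := by
  have hh := rooted_G2.toChecked
  refine Units.ext (matrix_ext fun a ha => ?_)
  rw [Units.val_mul, Units.val_mul, ← Matrix.mulVec_mulVec, ← Matrix.mulVec_mulVec, coe_torusHom, coe_torusHom,
    coe_nS hh hi]
  by_cases hs : a < chevG2.nroots
  · rw [charDiag_mulVec_root _ hs, Matrix.mulVec_smul, hh.nMat_bv_root hi hs, Matrix.mulVec_smul,
      charDiag_mulVec_root _ (hh.refl_lt hi hs), h a hs, smul_smul, smul_smul, mul_comm]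
  · obtain ⟨j, rfl⟩ := Nat.exists_eq_add_of_le (Nat.le_of_not_lt hs)
    rw [charDiag_mulVec_h, hh.nMat_bv_h hi (by omega), Matrix.mulVec_sub, Matrix.mulVec_smul, charDiag_mulVec_h,
      charDiag_mulVec_h]

/-- The model satisfies the relations. -/
noncomputable def data : Data F ↥(chevG2.group F) where
  A := xr F 7
  B := xr F 6
  P := xr F 8
  S := xr F 9
  L := xr F 10
  Z := xr F 11
  tor := torG F
  na := nG F 0 (by decide)
  nb := nG F 1 (by decide)
  addA := xr_add F 7
  addB := xr_add F 6
  addP := xr_add F 8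
  addS := xr_add F 9
  addL := xr_add F 10
  addZ := xr_add F 11
  BA t u := by
    rw [xr_comm F (r := 7) (s := 6) (l := [(8, -1, 1, 1), (9, 1, 2, 1), (10, 1, 3, 1), (11, 1, 3, 2)])
      (by decide) (by decide) (by decide) (by decide) (by decide +kernel)]
    simp only [List.map_cons, List.map_nil, List.prod_cons, List.prod_nil, mul_one, ← mul_assoc]
    push_cast; ring_nf
  AB t u := by
    rw [xr_comm F (r := 6) (s := 7) (l := [(8, 1, 1, 1), (9, 1, 1, 2), (10, -1, 1, 3), (11, -2, 2, 3)])
      (by decide) (by decide) (by decide) (by decide) (by decide +kernel)]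
    simp only [List.map_cons, List.map_nil, List.prod_cons, List.prod_nil, mul_one, ← mul_assoc]
    push_cast; ring_nf
  PA t u := by
    rw [xr_comm F (r := 7) (s := 8) (l := [(9, -2, 1, 1), (10, -3, 2, 1), (11, 3, 1, 2)])
      (by decide) (by decide) (by decide) (by decide) (by decide +kernel)]
    simp only [List.map_cons, List.map_nil, List.prod_cons, List.prod_nil, mul_one, ← mul_assoc]
    push_cast; ring_nf
  AP t u := by
    rw [xr_comm F (r := 8) (s := 7) (l := [(9, 2, 1, 1), (11, 3, 2, 1), (10, -3, 1, 2)])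
      (by decide) (by decide) (by decide) (by decide) (by decide +kernel)]
    simp only [List.map_cons, List.map_nil, List.prod_cons, List.prod_nil, mul_one, ← mul_assoc]
    push_cast; ring_nf
  SA t u := by
    rw [xr_comm F (r := 7) (s := 9) (l := [(10, 3, 1, 1)])
      (by decide) (by decide) (by decide) (by decide) (by decide +kernel)]
    simp only [List.map_cons, List.map_nil, List.prod_cons, List.prod_nil, mul_one]
    push_cast; ring_nf
  AS t u := by
    rw [xr_comm F (r := 9) (s := 7) (l := [(10, -3, 1, 1)])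
      (by decide) (by decide) (by decide) (by decide) (by decide +kernel)]
    simp only [List.map_cons, List.map_nil, List.prod_cons, List.prod_nil, mul_one]
    push_cast; ring_nf
  LB t u := by
    rw [xr_comm F (r := 6) (s := 10) (l := [(11, 1, 1, 1)])
      (by decide) (by decide) (by decide) (by decide) (by decide +kernel)]
    simp only [List.map_cons, List.map_nil, List.prod_cons, List.prod_nil, mul_one]
    push_cast; ring_nf
  BL t u := by
    rw [xr_comm F (r := 10) (s := 6) (l := [(11, -1, 1, 1)])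
      (by decide) (by decide) (by decide) (by decide) (by decide +kernel)]
    simp only [List.map_cons, List.map_nil, List.prod_cons, List.prod_nil, mul_one]
    push_cast; ring_nf
  SP t u := by
    rw [xr_comm F (r := 8) (s := 9) (l := [(11, 3, 1, 1)])
      (by decide) (by decide) (by decide) (by decide) (by decide +kernel)]
    simp only [List.map_cons, List.map_nil, List.prod_cons, List.prod_nil, mul_one]
    push_cast; ring_nf
  PS t u := by
    rw [xr_comm F (r := 9) (s := 8) (l := [(11, -3, 1, 1)])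
      (by decide) (by decide) (by decide) (by decide) (by decide +kernel)]
    simp only [List.map_cons, List.map_nil, List.prod_cons, List.prod_nil, mul_one]
    push_cast; ring_nf
  cBP t u := xr_commute F (r := 6) (s := 8) (by decide) (by decide) (by decide) (by decide +kernel) t u
  cBS t u := xr_commute F (r := 6) (s := 9) (by decide) (by decide) (by decide) (by decide +kernel) t u
  cBZ t u := xr_commute F (r := 6) (s := 11) (by decide) (by decide) (by decide) (by decide +kernel) t u
  cAL t u := xr_commute F (r := 7) (s := 10) (by decide) (by decide) (by decide) (by decide +kernel) t u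
  cAZ t u := xr_commute F (r := 7) (s := 11) (by decide) (by decide) (by decide) (by decide +kernel) t u
  cPL t u := xr_commute F (r := 8) (s := 10) (by decide) (by decide) (by decide) (by decide +kernel) t u
  cPZ t u := xr_commute F (r := 8) (s := 11) (by decide) (by decide) (by decide) (by decide +kernel) t u
  cSL t u := xr_commute F (r := 9) (s := 10) (by decide) (by decide) (by decide) (by decide +kernel) t u
  cSZ t u := xr_commute F (r := 9) (s := 11) (by decide) (by decide) (by decide) (by decide +kernel) t u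
  cLZ t u := xr_commute F (r := 10) (s := 11) (by decide) (by decide) (by decide) (by decide +kernel) t u
  torA α β t := torG_conj F (r := 7) (by decide) α β t (c := α) (by
    rw [torFun_eq, show chevG2.cartan 0 7 = 2 by decide +kernel, show chevG2.cartan 1 7 = -1 by decide +kernel]
    refine Units.ext ?_; simp; field_simp)
  torB α β t := torG_conj F (r := 6) (by decide) α β t (c := β) (by
    rw [torFun_eq, show chevG2.cartan 0 6 = -3 by decide +kernel, show chevG2.cartan 1 6 = 2 by decide +kernel]
    refine Units.ext ?_; simp [zpow_neg]; field_simp)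
  torP α β t := by
    have := torG_conj F (r := 8) (by decide) α β t (c := α * β) (by
      rw [torFun_eq, show chevG2.cartan 0 8 = -1 by decide +kernel, show chevG2.cartan 1 8 = 1 by decide +kernel]
      refine Units.ext ?_; simp; field_simp)
    simpa using this
  torS α β t := by
    have := torG_conj F (r := 9) (by decide) α β t (c := α ^ 2 * β) (by
      rw [torFun_eq, show chevG2.cartan 0 9 = 1 by decide +kernel, show chevG2.cartan 1 9 = 0 by decide +kernel]
      simp)
    simpa using this
  torL α β t := by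
    have := torG_conj F (r := 10) (by decide) α β t (c := α ^ 3 * β) (by
      rw [torFun_eq, show chevG2.cartan 0 10 = 3 by decide +kernel, show chevG2.cartan 1 10 = -1 by decide +kernel]
      refine Units.ext ?_; simp [zpow_ofNat]; field_simp)
    simpa using this
  torZ α β t := by
    have := torG_conj F (r := 11) (by decide) α β t (c := α ^ 3 * β ^ 2) (by
      rw [torFun_eq, show chevG2.cartan 0 11 = 0 by decide +kernel, show chevG2.cartan 1 11 = 1 by decide +kernel]
      simp)
    simpa using this
  tor_mul := torG_mul F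
  na_B t := (nG_conj F (i := 0) (r := 6) (a := 10) (e := 1) (by decide) (by decide) (by decide +kernel)
    (by decide +kernel) t).trans (by simp)
  na_L t := (nG_conj F (i := 0) (r := 10) (a := 6) (e := -1) (by decide) (by decide) (by decide +kernel)
    (by decide +kernel) t).trans (by simp)
  na_P t := (nG_conj F (i := 0) (r := 8) (a := 9) (e := 1) (by decide) (by decide) (by decide +kernel)
    (by decide +kernel) t).trans (by simp)
  na_S t := (nG_conj F (i := 0) (r := 9) (a := 8) (e := -1) (by decide) (by decide) (by decide +kernel)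
    (by decide +kernel) t).trans (by simp)
  na_Z t := (nG_conj F (i := 0) (r := 11) (a := 11) (e := 1) (by decide) (by decide) (by decide +kernel)
    (by decide +kernel) t).trans (by simp)
  nb_A t := (nG_conj F (i := 1) (r := 7) (a := 8) (e := 1) (by decide) (by decide) (by decide +kernel)
    (by decide +kernel) t).trans (by simp)
  nb_P t := (nG_conj F (i := 1) (r := 8) (a := 7) (e := -1) (by decide) (by decide) (by decide +kernel)
    (by decide +kernel) t).trans (by simp)
  nb_S t := (nG_conj F (i := 1) (r := 9) (a := 9) (e := 1) (by decide) (by decide) (by decide +kernel)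
    (by decide +kernel) t).trans (by simp)
  nb_L t := (nG_conj F (i := 1) (r := 10) (a := 11) (e := 1) (by decide) (by decide) (by decide +kernel)
    (by decide +kernel) t).trans (by simp)
  nb_Z t := (nG_conj F (i := 1) (r := 11) (a := 10) (e := -1) (by decide) (by decide) (by decide +kernel)
    (by decide +kernel) t).trans (by simp)
  na_tor α β := Subtype.ext (nG_torus F (by decide) _ _ fun r hr => by
    rw [torFun_coef F _ _ hr, torFun_coef F _ _ (rooted_G2.toChecked.refl_lt (by decide) hr),
      ((coef_refl ⟨r, hr⟩).1).1, ((coef_refl ⟨r, hr⟩).1).2, mul_zpow, inv_zpow', ← zpow_natCast, ← zpow_mul,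
      ← mul_assoc, ← zpow_add]
    congr 2; ring)
  nb_tor α β := Subtype.ext (nG_torus F (by decide) _ _ fun r hr => by
    rw [torFun_coef F _ _ hr, torFun_coef F _ _ (rooted_G2.toChecked.refl_lt (by decide) hr),
      ((coef_refl ⟨r, hr⟩).2).1, ((coef_refl ⟨r, hr⟩).2).2, mul_zpow, inv_zpow', mul_assoc, ← zpow_add]
    congr 2)
  na_word := by
    have hc : nG F 0 (by decide) * xr F 7 1 * (nG F 0 (by decide))⁻¹ = xr F 4 (-1) := by
      rw [nG_conj F (i := 0) (r := 7) (a := 4) (e := -1) (by decide) (by decide) (by decide +kernel)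
        (by decide +kernel) 1, mul_inv_cancel_right]
      simp
    rw [hc]
    refine Subtype.ext (Units.ext ?_)
    show ((nS rooted_G2.toChecked F 0 : GL chevG2.Idx F) : Matrix chevG2.Idx chevG2.Idx F) = _
    simp only [coe_nS rooted_G2.toChecked (show 0 < chevG2.rank by decide), xr, Subgroup.coe_mul, Units.val_mul, coe_xg]
    simp [ChevalleyDatum.nMat, ChevalleyDatum.nWord, ChevalleyDatum.wordMat,
      show chevG2.simple 0 = 7 from rfl, show chevG2.neg 7 = 4 by decide +kernel, mul_assoc]

end Cfsg.Agent.Lib.G2Deg41
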