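import Cfsg.Agent.Lib.G2Deg41.Ctx

/-!
Characteristic three: the multiplicities of the characters of the abelian group `P S L Z` and the bound on
the dimension that they give.
-/

set_option autoImplicit false

namespace Cfsg.Agent.Lib.G2Deg41

open Module

variable {F G V : Type*} [Field F] [Group G] [AddCommGroup V] [Module ℂ V]

namespace Ctx

variable (X : Ctx F G V) (h3 : (3 : F) = 0)

/-- The stalk of a character of `P S L Z`. -/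
abbrev R (s1 s2 l1 l2 : F) : Submodule ℂ V := X.E X.D.P s1 ⊓ X.E X.D.S s2 ⊓ X.E X.D.L l1 ⊓ X.E X.D.Z l2

/-- Its dimension. -/
noncomputable def M (s1 s2 l1 l2 : F) : ℕ := finrank ℂ ↥(X.R s1 s2 l1 l2)

include h3

theorem PA3 (t u : F) : X.D.P u * X.D.A t = X.D.A t * X.D.P u * X.D.S (2 * t * u) := by
  rw [X.D.PA]; simp [h3, X.D.addL.map_zero, X.D.addZ.map_zero]

theorem AP3 (t u : F) : X.D.A u * X.D.P t = X.D.P t * X.D.A u * X.D.S (-(2 * t * u)) := by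
  rw [X.D.AP]; simp [h3, X.D.addL.map_zero, X.D.addZ.map_zero]

theorem cAS3 (t u : F) : Commute (X.D.A t) (X.D.S u) := by
  have e := X.D.SA t u
  simp [h3, X.D.addL.map_zero] at e
  exact e.symm

theorem cPS3 (t u : F) : Commute (X.D.P t) (X.D.S u) := by
  have e := X.D.SP t u
  simp [h3, X.D.addZ.map_zero] at e
  exact e.symm

theorem A_mem {s1 s2 l1 l2 : F} (t : F) {v : V} (hv : v ∈ X.R s1 s2 l1 l2) :
    X.π (X.D.A t) v ∈ X.R (s1 + 2 * t * s2) s2 l1 l2 := by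
  obtain ⟨⟨⟨hP, hS⟩, hL⟩, hZ⟩ := hv
  refine ⟨⟨⟨X.shift_mem (e := 2 * t * s2) (X.PA3 h3 t) hP fun u => ?_, X.comm_mem (X.cAS3 h3 t) hS⟩,
    X.comm_mem (X.D.cAL t) hL⟩, X.comm_mem (X.D.cAZ t) hZ⟩
  rw [X.act_of_mem hS]; congr 2; ring

omit h3 in
theorem B_mem {s1 s2 l1 l2 : F} (t : F) {v : V} (hv : v ∈ X.R s1 s2 l1 l2) :
    X.π (X.D.B t) v ∈ X.R s1 s2 (l1 - t * l2) l2 := by
  obtain ⟨⟨⟨hP, hS⟩, hL⟩, hZ⟩ := hv
  refine ⟨⟨⟨X.comm_mem (X.D.cBP t) hP, X.comm_mem (X.D.cBS t) hS⟩, ?_⟩, X.comm_mem (X.D.cBZ t) hZ⟩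
  rw [sub_eq_add_neg]
  refine X.shift_mem (X.D.LB t) hL fun u => ?_
  rw [X.act_of_mem hZ]; congr 2; ring

section
variable [FiniteDimensional ℂ V]

theorem M_A (s1 s2 l1 l2 t : F) : X.M s1 s2 l1 l2 = X.M (s1 + 2 * t * s2) s2 l1 l2 := by
  refine le_antisymm (finrank_le_of_act X.π _ fun v hv => X.A_mem h3 t hv)
    (finrank_le_of_act X.π (X.D.A (-t)) fun v hv => ?_)
  have := X.A_mem h3 (-t) hv
  rwa [show s1 + 2 * t * s2 + 2 * -t * s2 = s1 by ring] at this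

omit h3 in
theorem M_B (s1 s2 l1 l2 t : F) : X.M s1 s2 l1 l2 = X.M s1 s2 (l1 - t * l2) l2 := by
  refine le_antisymm (finrank_le_of_act X.π _ fun v hv => X.B_mem t hv)
    (finrank_le_of_act X.π (X.D.B (-t)) fun v hv => ?_)
  have := X.B_mem (-t) hv
  rwa [show l1 - t * l2 - -t * l2 = l1 by ring] at this

end

omit h3 in
theorem M_tor (α β : Fˣ) (s1 s2 l1 l2 : F) :
    X.M ((α : F) * β * s1) ((α : F) ^ 2 * β * s2) ((α : F) ^ 3 * β * l1) ((α : F) ^ 3 * (β : F) ^ 2 * l2) =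
      X.M s1 s2 l1 l2 := by
  have ha := α.ne_zero
  have hb := β.ne_zero
  symm
  rw [M, M, ← X.finrank_comap' (X.D.tor α β)
    (X.R s1 s2 l1 l2)]
  refine (Ctx.fr_congr ?_).symm
  simp only [R, Submodule.comap_inf]
  rw [X.comap_E (mul_ne_zero ha hb) (X.D.torP α β), X.comap_E (mul_ne_zero (pow_ne_zero _ ha) hb) (X.D.torS α β),
    X.comap_E (mul_ne_zero (pow_ne_zero _ ha) hb) (X.D.torL α β),
    X.comap_E (mul_ne_zero (pow_ne_zero _ ha) (pow_ne_zero _ hb)) (X.D.torZ α β)]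

theorem inv_P (d1 d2 : F) : Inv X.π X.D.P (X.E X.D.S d1 ⊓ X.E X.D.Z d2) := fun t v hv =>
  ⟨X.comm_mem (X.cPS3 h3 t) hv.1, X.comm_mem (X.D.cPZ t) hv.2⟩

variable [Fintype F] [FiniteDimensional ℂ V]

/-- The Levi element on `P, S, Z`. -/
theorem sum_l1_swap (s1 s2 l2 : F) : ∑ l, X.M s1 s2 l l2 = ∑ l, X.M s2 (-s1) l l2 := by
  have key : ∀ d1 d2 d3, finrank ℂ ↥(X.E X.D.P d1 ⊓ X.E X.D.S d2 ⊓ X.E X.D.Z d3) = ∑ l, X.M d1 d2 l d3 :=
    fun d1 d2 d3 => by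
      rw [split X.π X.ψ X.D.addL X.hψ _ (((X.inv_comm' X.D.cPL d1).inf X.π (X.inv_comm' X.D.cSL d2)).inf X.π
        (X.inv_comm X.D.cLZ d3))]
      exact Finset.sum_congr rfl fun l _ => by rw [M, R, inf_right_comm]
  rw [← key, ← key, ← X.finrank_comap' X.D.na (X.E X.D.P s1 ⊓ X.E X.D.S s2 ⊓ X.E X.D.Z l2), Submodule.comap_inf,
    Submodule.comap_inf, X.comap_neg X.D.na_S, X.comap_one X.D.na_P, X.comap_one X.D.na_Z,
    inf_comm (X.E X.D.S (-s1))]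

/-- The Levi element on `S, L, Z`. -/
theorem sum_s1_swap (s2 l1 l2 : F) : ∑ s, X.M s s2 l1 l2 = ∑ s, X.M s s2 l2 (-l1) := by
  have key : ∀ d1 d2 d3, finrank ℂ ↥(X.E X.D.S d1 ⊓ X.E X.D.L d2 ⊓ X.E X.D.Z d3) = ∑ s, X.M s d1 d2 d3 :=
    fun d1 d2 d3 => by
      rw [split X.π X.ψ X.D.addP X.hψ _ (((X.inv_comm (X.cPS3 h3) d1).inf X.π (X.inv_comm X.D.cPL d2)).inf X.π
        (X.inv_comm X.D.cPZ d3))]
      exact Finset.sum_congr rfl fun s _ => by rw [M, R, inf_comm, ← inf_assoc, ← inf_assoc]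
  rw [← key, ← key, ← X.finrank_comap' X.D.nb (X.E X.D.S s2 ⊓ X.E X.D.L l1 ⊓ X.E X.D.Z l2), Submodule.comap_inf,
    Submodule.comap_inf, X.comap_one X.D.nb_S, X.comap_neg X.D.nb_Z, X.comap_one X.D.nb_L,
    inf_right_comm]

/-- The dimension is the sum of the multiplicities. -/
theorem total : finrank ℂ V = ∑ l2, ∑ s2, ∑ s1, ∑ l1, X.M s1 s2 l1 l2 := by
  have hZ : Inv X.π X.D.Z (⊤ : Submodule ℂ V) := fun _ _ _ => trivial
  rw [← finrank_top ℂ V, split X.π X.ψ X.D.addZ X.hψ ⊤ hZ]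
  refine Finset.sum_congr rfl fun l2 _ => ?_
  rw [top_inf_eq, split X.π X.ψ X.D.addS X.hψ _ fun t v hv => X.comm_mem (X.D.cSZ t) hv]
  refine Finset.sum_congr rfl fun s2 _ => ?_
  rw [inf_comm, split X.π X.ψ X.D.addP X.hψ _ (X.inv_P h3 s2 l2)]
  refine Finset.sum_congr rfl fun s1 _ => ?_
  rw [split X.π X.ψ X.D.addL X.hψ _ (((X.inv_comm' X.D.cSL s2).inf X.π (X.inv_comm X.D.cLZ l2)).inf X.π
    (X.inv_comm' X.D.cPL s1))]
  refine Finset.sum_congr rfl fun l1 _ => ?_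
  refine Ctx.fr_congr ?_
  simp only [R, Ctx.E]
  ac_rfl

/-- The multiplicity of the general character. -/
noncomputable def mu : ℕ := X.M 0 1 0 1
/-- The multiplicity on the long centre. -/
noncomputable def nu : ℕ := X.M 0 0 0 1
/-- The multiplicity on the short centre. -/
noncomputable def nu' : ℕ := X.M 0 1 0 0

omit [FiniteDimensional ℂ V] [Fintype F] in
theorem two_ne' : (2 : F) ≠ 0 := fun h => one_ne_zero (by linear_combination h3 - h : (1 : F) = 0)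

omit [Fintype F] in
theorem M_gen0 {s2 l2 : F} (s1 l1 : F) (hs : s2 ≠ 0) (hl : l2 ≠ 0) : X.M s1 s2 l1 l2 = X.mu := by
  rw [X.M_A h3 s1 s2 l1 l2 (-s1 / (2 * s2)), X.M_B _ _ l1 l2 (l1 / l2),
    show s1 + 2 * (-s1 / (2 * s2)) * s2 = 0 by
      have := two_ne' h3; field_simp; ring,
    div_mul_cancel₀ _ hl, sub_self]
  have h := X.M_tor (Units.mk0 (s2 ^ 2 / l2) (div_ne_zero (pow_ne_zero _ hs) hl))
    (Units.mk0 (l2 ^ 2 / s2 ^ 3) (div_ne_zero (pow_ne_zero _ hl) (pow_ne_zero _ hs))) 0 1 0 1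
  simp only [Units.val_mk0, mul_zero, mul_one] at h
  rw [show (s2 ^ 2 / l2) ^ 2 * (l2 ^ 2 / s2 ^ 3) = s2 by field_simp,
    show (s2 ^ 2 / l2) ^ 3 * (l2 ^ 2 / s2 ^ 3) ^ 2 = l2 by field_simp] at h
  exact h

theorem M_gen {s1 s2 l2 : F} (l1 : F) (hs : s1 ≠ 0 ∨ s2 ≠ 0) (hl : l2 ≠ 0) : X.M s1 s2 l1 l2 = X.mu := by
  by_cases h2 : s2 = 0
  · subst h2
    have hs1 : s1 ≠ 0 := hs.resolve_right (fun h => h rfl)
    have hc : ∀ l, X.M s1 0 l l2 = X.M s1 0 l1 l2 := fun l => by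
      rw [X.M_B s1 0 l l2 ((l - l1) / l2), div_mul_cancel₀ _ hl, sub_sub_cancel]
    have h := X.sum_l1_swap h3 s1 0 l2
    rw [sum_const' _ _ hc, sum_const' _ _ fun l => X.M_gen0 h3 0 l (neg_ne_zero.2 hs1) hl] at h
    exact Nat.eq_of_mul_eq_mul_left Fintype.card_pos h
  · exact X.M_gen0 h3 s1 l1 h2 hl

omit [Fintype F] h3 in
theorem M_nu {l2 : F} (l1 : F) (hl : l2 ≠ 0) : X.M 0 0 l1 l2 = X.nu := by
  rw [X.M_B _ _ l1 l2 (l1 / l2), div_mul_cancel₀ _ hl, sub_self]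
  have h := X.M_tor (Units.mk0 l2 hl) (Units.mk0 l2 hl)⁻¹ 0 0 0 1
  simp only [Units.val_mk0, Units.val_inv_eq_inv_val, mul_zero, mul_one] at h
  rw [show l2 ^ 3 * l2⁻¹ ^ 2 = l2 by field_simp] at h
  exact h

omit [Fintype F] in
theorem M_nu' {s2 : F} (s1 : F) (hs : s2 ≠ 0) : X.M s1 s2 0 0 = X.nu' := by
  rw [X.M_A h3 s1 s2 0 0 (-s1 / (2 * s2)),
    show s1 + 2 * (-s1 / (2 * s2)) * s2 = 0 by have := two_ne' h3; field_simp; ring]
  have h := X.M_tor 1 (Units.mk0 s2 hs) 0 1 0 0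
  simp only [Units.val_mk0, Units.val_one, one_pow, one_mul, mul_zero, mul_one] at h
  exact h

theorem M_mid {s2 l1 : F} (s1 : F) (hs : s2 ≠ 0) (hl : l1 ≠ 0) : X.M s1 s2 l1 0 = X.mu := by
  have hc : ∀ s, X.M s s2 l1 0 = X.M s1 s2 l1 0 := fun s => by
    rw [X.M_A h3 s s2 l1 0 ((s1 - s) / (2 * s2)),
      show s + 2 * ((s1 - s) / (2 * s2)) * s2 = s1 by have := two_ne' h3; field_simp; ring]
  have h := X.sum_s1_swap h3 s2 l1 0
  rw [sum_const' _ _ hc, sum_const' _ _ fun s => X.M_gen h3 0 (Or.inr hs) (neg_ne_zero.2 hl)] at h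
  exact Nat.eq_of_mul_eq_mul_left Fintype.card_pos h

/-- The long column. -/
theorem col_L {l : F} (hl : l ≠ 0) : ∑ s, X.M s 0 l 0 = X.nu + (Fintype.card F - 1) * X.mu := by
  rw [X.sum_s1_swap h3, sum_zero_const _ _ fun s hs => X.M_gen h3 0 (Or.inl hs) (neg_ne_zero.2 hl),
    X.M_nu 0 (neg_ne_zero.2 hl), smul_eq_mul]

/-- The short row. -/
theorem row_S {s : F} (hs : s ≠ 0) : ∑ l, X.M s 0 l 0 = X.nu' + (Fintype.card F - 1) * X.mu := by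
  rw [X.sum_l1_swap h3, sum_zero_const _ _ fun l hl => X.M_mid h3 0 (neg_ne_zero.2 hs) hl,
    X.M_nu' h3 0 (neg_ne_zero.2 hs), smul_eq_mul]

/-- The dimension in terms of the multiplicities. -/
theorem total_eq (p : ℕ) (hp : p = Fintype.card F - 1) :
    finrank ℂ V = p * (p + 1) * (X.nu + p * X.mu) + p * (p + 1) * (p * X.mu) +
      p * (p + 1) * (X.nu' + p * X.mu) + p ^ 2 * (p + 1) * (p * X.mu) +
      (p * (X.nu + p * X.mu) + ∑ s, X.M s 0 0 0) := by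
  have hq : Fintype.card F = p + 1 := by have := Fintype.card_pos (α := F); omega
  rw [X.total h3, sum_zero_const (F := F) (fun l2 => ∑ s2, ∑ s1, ∑ l1, X.M s1 s2 l1 l2)
    ((p + 1) * (X.nu + p * X.mu) + p * ((p + 1) * ((p + 1) * X.mu))) (fun l2 hl => ?_), ← hp]
  · have h00 : ∑ s1, ∑ l1, X.M s1 0 l1 0 = (∑ s, X.M s 0 0 0) + p * (X.nu + p * X.mu) := by
      rw [Finset.sum_comm, sum_zero_const _ _ (fun l hl => X.col_L h3 hl), ← hp, smul_eq_mul]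
    have h0 : ∀ s2 : F, s2 ≠ 0 → ∑ s1, ∑ l1, X.M s1 s2 l1 0 = (p + 1) * (X.nu' + p * X.mu) := fun s2 hs => by
      rw [sum_const' _ (X.nu' + p * X.mu) fun s1 => ?_, hq]
      rw [sum_zero_const _ _ fun l hl => X.M_mid h3 s1 hs hl, X.M_nu' h3 s1 hs, ← hp, smul_eq_mul]
    rw [sum_zero_const (F := F) (fun s2 => ∑ s1, ∑ l1, X.M s1 s2 l1 0) _ h0, h00, ← hp, smul_eq_mul, smul_eq_mul]
    ring
  · rw [sum_zero_const (F := F) (fun s2 => ∑ s1, ∑ l1, X.M s1 s2 l1 l2) ((p + 1) * ((p + 1) * X.mu)) (fun s2 hs => ?_),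
      sum_zero_const (F := F) (fun s1 => ∑ l1, X.M s1 0 l1 l2) ((p + 1) * X.mu) (fun s1 hs => ?_),
      sum_const' _ _ (fun l1 => X.M_nu l1 hl), ← hp, hq, smul_eq_mul, smul_eq_mul]
    · ring
    · rw [sum_const' _ _ fun l1 => X.M_gen h3 l1 (Or.inl hs) hl, hq]
    · rw [sum_const' _ _ (fun s1 => by rw [sum_const' _ _ fun l1 => X.M_gen h3 l1 (Or.inr hs) hl]), hq]

end Ctx

end Cfsg.Agent.Lib.G2Deg41
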