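import Cfsg.Agent.Lib.G2Deg41.Three

/-!
Characteristic three: the lower bound for the dimension.
-/

set_option autoImplicit false

namespace Cfsg.Agent.Lib.G2Deg41

open Module

variable {F G V : Type*} [Field F] [Fintype F] [Group G] [AddCommGroup V] [Module ℂ V] [FiniteDimensional ℂ V]

theorem sum_pos_ne {ι : Type*} [Fintype ι] {f : ι → ℕ} (h : ∑ i, f i ≠ 0) : ∃ i, f i ≠ 0 := by
  by_contra hcon; push Not at hcon; exact h (Finset.sum_eq_zero fun i _ => hcon i)

namespace Ctx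

variable (X : Ctx F G V) (h3 : (3 : F) = 0) (hq : 9 ≤ Fintype.card F)
include h3

omit [Fintype F] [FiniteDimensional ℂ V] in
theorem cube_inj : Function.Injective fun t : F => t ^ 3 := fun a b e => by
  simp only at e
  have : (a - b) ^ 3 = 0 := by linear_combination e - (a ^ 2 * b - a * b ^ 2) * h3
  exact sub_eq_zero.1 (pow_eq_zero_iff (by norm_num) |>.1 this)

omit [FiniteDimensional ℂ V] in
theorem exists_cube (a : F) : ∃ t : F, t ^ 3 = a :=
  (Finite.injective_iff_surjective.1 (cube_inj h3)) a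

theorem inv_A_R {s1 l1 l2 : F} : Inv X.π X.D.A (X.R s1 0 l1 l2) := fun t v hv => by
  simpa using X.A_mem h3 t hv

omit h3 [Fintype F] [FiniteDimensional ℂ V] in
theorem inv_B_R {s1 s2 l1 : F} : Inv X.π X.D.B (X.R s1 s2 l1 0) := fun t v hv => by
  simpa using X.B_mem t hv

omit [Fintype F] [FiniteDimensional ℂ V] in
/-- The effect of `A` on the character of `B` over a stalk. -/
theorem A_mem_B {s l β : F} (t : F) {v : V} (hv : v ∈ X.R s 0 l 0 ⊓ X.E X.D.B β) :
    X.π (X.D.A t) v ∈ X.R s 0 l 0 ⊓ X.E X.D.B (β + (s * t - l * t ^ 3)) := by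
  refine ⟨by simpa using X.A_mem h3 t hv.1, X.shift_mem (X.D.BA t) hv.2 fun u => ?_⟩
  obtain ⟨⟨⟨⟨hP, hS⟩, hL⟩, hZ⟩, -⟩ := hv
  simp only [act_mul]
  rw [X.act_of_mem hZ, map_smul, X.act_of_mem hL, smul_smul, map_smul, X.act_of_mem hS, smul_smul, map_smul,
    X.act_of_mem hP, smul_smul, ← AddChar.map_add_eq_mul, ← AddChar.map_add_eq_mul, ← AddChar.map_add_eq_mul]
  congr 2; ring

omit [Fintype F] [FiniteDimensional ℂ V] in
/-- The effect of `B` on the character of `A` over a stalk. -/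
theorem B_mem_A {s α : F} (t : F) {v : V} (hv : v ∈ X.R s 0 0 0 ⊓ X.E X.D.A α) :
    X.π (X.D.B t) v ∈ X.R s 0 0 0 ⊓ X.E X.D.A (α - t * s) := by
  refine ⟨by simpa using X.B_mem t hv.1, ?_⟩
  rw [sub_eq_add_neg]
  refine X.shift_mem (X.D.AB t) hv.2 fun u => ?_
  obtain ⟨⟨⟨⟨hP, hS⟩, hL⟩, hZ⟩, -⟩ := hv
  simp only [act_mul]
  rw [X.act_of_mem hZ, map_smul, X.act_of_mem hL, smul_smul, map_smul, X.act_of_mem hS, smul_smul, map_smul,
    X.act_of_mem hP, smul_smul, ← AddChar.map_add_eq_mul, ← AddChar.map_add_eq_mul, ← AddChar.map_add_eq_mul]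
  congr 2; ring

/-- A long stalk is equally divided by the characters of `B`. -/
theorem M_L_eq {l : F} (hl : l ≠ 0) :
    X.M 0 0 l 0 = Fintype.card F * finrank ℂ ↥(X.R 0 0 l 0 ⊓ X.E X.D.B 0) := by
  rw [M, split X.π X.ψ X.D.addB X.hψ _ X.inv_B_R]
  refine sum_const' _ _ fun β => le_antisymm ?_ ?_
  · obtain ⟨t, ht⟩ := exists_cube h3 (β / l)
    refine finrank_le_of_act X.π (X.D.A t) fun v hv => ?_
    have := X.A_mem_B h3 t hv
    rwa [show β + (0 * t - l * t ^ 3) = 0 by rw [ht]; field_simp; ring] at this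
  · obtain ⟨t, ht⟩ := exists_cube h3 (-β / l)
    refine finrank_le_of_act X.π (X.D.A t) fun v hv => ?_
    have := X.A_mem_B h3 t hv
    rwa [show 0 + (0 * t - l * t ^ 3) = β by rw [ht]; field_simp; ring] at this

/-- A short stalk is equally divided by the characters of `A`. -/
theorem M_S_eq {s : F} (hs : s ≠ 0) :
    X.M s 0 0 0 = Fintype.card F * finrank ℂ ↥(X.R s 0 0 0 ⊓ X.E X.D.A 0) := by
  rw [M, split X.π X.ψ X.D.addA X.hψ _ (X.inv_A_R h3)]
  refine sum_const' _ _ fun α => le_antisymm ?_ ?_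
  · refine finrank_le_of_act X.π (X.D.B (α / s)) fun v hv => ?_
    have := X.B_mem_A h3 (α / s) hv
    rwa [show α - α / s * s = 0 by field_simp; ring] at this
  · refine finrank_le_of_act X.π (X.D.B (-α / s)) fun v hv => ?_
    have := X.B_mem_A h3 (-α / s) hv
    rwa [show (0 : F) - -α / s * s = α by field_simp; ring] at this

/-- No mixed character when the multiplicity on the long centre is small. -/
theorem mixed_zero (hq : 9 ≤ Fintype.card F) (hmu : X.mu = 1) (hnu : X.nu < 4) {s l : F} (hs : s ≠ 0)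
    (hl : l ≠ 0) : X.M s 0 l 0 = 0 := by
  classical
  by_contra hne
  have h3le : 3 ≤ X.M s 0 l 0 := by
    rw [M, split X.π X.ψ X.D.addB X.hψ _ X.inv_B_R]
    obtain ⟨β, hβ⟩ := sum_pos_ne (f := fun c => finrank ℂ ↥(X.R s 0 l 0 ⊓ eig X.π X.ψ X.D.B c))
      (by rw [← split X.π X.ψ X.D.addB X.hψ _ X.inv_B_R]; exact hne)
    set f : F → F := fun t => β + (s * t - l * t ^ 3) with hf
    have h1 : Fintype.card F ≤ 3 * (Finset.univ.image f).card := by
      rw [← Finset.card_univ]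
      refine Finset.card_le_mul_card_image _ 3 fun c _ => ?_
      open Polynomial in
      let p : F[X] := C (-l) * Polynomial.X ^ 3 + C 0 * Polynomial.X ^ 2 + C s * Polynomial.X + C (β - c)
      have hp : p.natDegree = 3 := Polynomial.natDegree_cubic (neg_ne_zero.2 hl)
      have hp0 : p ≠ 0 := fun e => by rw [e, Polynomial.natDegree_zero] at hp; omega
      calc _ ≤ p.roots.toFinset.card := Finset.card_le_card fun t ht => by
            have ht' : f t = c := (Finset.mem_filter.1 ht).2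
            rw [Multiset.mem_toFinset, Polynomial.mem_roots hp0]
            simp only [p, Polynomial.IsRoot.def, Polynomial.eval_add, Polynomial.eval_mul, Polynomial.eval_C,
              Polynomial.eval_pow, Polynomial.eval_X]
            linear_combination ht'
        _ ≤ 3 := ((Multiset.toFinset_card_le _).trans (Polynomial.card_roots' p)).trans hp.le
    refine le_trans ?_ (Finset.sum_le_univ_sum_of_nonneg (s := Finset.univ.image f) fun _ => Nat.zero_le _)
    refine le_trans ?_ (Finset.card_nsmul_le_sum _ _ 1 fun c hc => ?_)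
    · rw [smul_eq_mul, mul_one]; omega
    · obtain ⟨t, -, rfl⟩ := Finset.mem_image.1 hc
      refine le_trans (Nat.one_le_iff_ne_zero.2 hβ) (finrank_le_of_act X.π (X.D.A t) fun v hv => ?_)
      exact X.A_mem_B h3 t hv
  set g : Fˣ → F := fun ρ => (ρ : F)⁻¹ ^ 2 * s with hg
  have h2 : Fintype.card F - 1 ≤ 2 * (Finset.univ.image g).card := by
    rw [← Fintype.card_units, ← Finset.card_univ]
    refine Finset.card_le_mul_card_image _ 2 fun c hc => ?_
    obtain ⟨ρ₀, -, rfl⟩ := Finset.mem_image.1 hc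
    calc _ ≤ ({ρ₀, -ρ₀} : Finset Fˣ).card := Finset.card_le_card fun ρ hρ => by
          have e : g ρ = g ρ₀ := (Finset.mem_filter.1 hρ).2
          have e2 : (ρ : F) ^ 2 = (ρ₀ : F) ^ 2 := by
            simpa [g, hs] using e
          rcases sq_eq_sq_iff_eq_or_eq_neg.1 e2 with e3 | e3
          · simp [Units.ext e3]
          · simp [show ρ = -ρ₀ from Units.ext (by rw [e3, Units.val_neg])]
      _ ≤ 2 := Finset.card_le_two
  have h4 : (Finset.univ.image g).card * 3 ≤ ∑ c, X.M c 0 l 0 := by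
    refine le_trans ?_ (Finset.sum_le_univ_sum_of_nonneg (s := Finset.univ.image g) fun _ => Nat.zero_le _)
    refine le_trans (le_of_eq (smul_eq_mul _ _).symm) (Finset.card_nsmul_le_sum _ _ 3 fun c hc => ?_)
    obtain ⟨ρ, -, rfl⟩ := Finset.mem_image.1 hc
    refine h3le.trans (le_of_eq ?_)
    have h := X.M_tor ρ (ρ⁻¹ ^ 3) s 0 l 0
    simp only [mul_zero, Units.val_pow_eq_pow_val, Units.val_inv_eq_inv_val] at h
    have hr := ρ.ne_zero
    rw [show (ρ : F) * (ρ : F)⁻¹ ^ 3 * s = g ρ by simp only [g]; field_simp,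
      show (ρ : F) ^ 3 * (ρ : F)⁻¹ ^ 3 * l = l by field_simp] at h
    exact h.symm
  rw [X.col_L h3 hl, hmu, mul_one] at h4
  omega

theorem finrank_Z (c : F) : finrank ℂ ↥(X.E X.D.Z c) = ∑ s2, ∑ s1, ∑ l, X.M s1 s2 l c := by
  rw [split X.π X.ψ X.D.addS X.hψ _ (X.inv_comm X.D.cSZ c)]
  refine Finset.sum_congr rfl fun s2 _ => ?_
  rw [split X.π X.ψ X.D.addP X.hψ _ ((X.inv_comm X.D.cPZ c).inf X.π (X.inv_comm (X.cPS3 h3) s2))]
  refine Finset.sum_congr rfl fun s1 _ => ?_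
  rw [split X.π X.ψ X.D.addL X.hψ _ (((X.inv_comm X.D.cLZ c).inf X.π (X.inv_comm' X.D.cSL s2)).inf X.π
    (X.inv_comm' X.D.cPL s1))]
  exact Finset.sum_congr rfl fun l _ => Ctx.fr_congr (by simp only [R, Ctx.E]; ac_rfl)

/-- The multiplicity on the long centre vanishes when the general one does. -/
theorem nu_eq_zero (hq : 9 ≤ Fintype.card F) (hmu : X.mu = 0) : X.nu = 0 := by
  classical
  by_contra hne
  have hZ1 : X.E X.D.Z 1 = X.E X.D.P 0 ⊓ X.E X.D.S 0 ⊓ X.E X.D.Z 1 := by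
    refine (Submodule.eq_of_le_of_finrank_eq inf_le_right ?_).symm
    have e1 : finrank ℂ ↥(X.E X.D.P 0 ⊓ X.E X.D.S 0 ⊓ X.E X.D.Z 1) = ∑ l, X.M 0 0 l 1 := by
      rw [split X.π X.ψ X.D.addL X.hψ _ (((X.inv_comm' X.D.cPL 0).inf X.π (X.inv_comm' X.D.cSL 0)).inf X.π
        (X.inv_comm X.D.cLZ 1))]
      exact Finset.sum_congr rfl fun l _ => Ctx.fr_congr (by simp only [R, Ctx.E]; ac_rfl)
    have e2 : finrank ℂ ↥(X.E X.D.Z 1) = ∑ s2, ∑ s1, ∑ l, X.M s1 s2 l 1 := X.finrank_Z h3 1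
    rw [e1, e2, sum_zero_const (F := F) (fun s2 => ∑ s1, ∑ l, X.M s1 s2 l 1) 0 (fun s2 hs => ?_),
      sum_zero_const (F := F) (fun s1 => ∑ l, X.M s1 0 l 1) 0 (fun s1 hs => ?_)]
    · simp
    · exact Finset.sum_eq_zero fun l _ => by rw [X.M_gen h3 l (Or.inl hs) one_ne_zero, hmu]
    · exact Finset.sum_eq_zero fun s1 _ => Finset.sum_eq_zero fun l _ => by
        rw [X.M_gen h3 l (Or.inr hs) one_ne_zero, hmu]
  have hlow : (Fintype.card F - 1) * X.nu ≤ finrank ℂ ↥(X.E X.D.Z 1 ⊓ X.E X.D.A 0) := by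
    rw [← Ctx.fr_congr (show (X.E X.D.L (-1) ⊓ X.E X.D.P 0).comap (X.π X.D.nb) = X.E X.D.Z 1 ⊓ X.E X.D.A 0 by
      rw [Submodule.comap_inf, X.comap_neg X.D.nb_Z, X.comap_one X.D.nb_A, neg_neg]), X.finrank_comap',
      split X.π X.ψ X.D.addZ X.hψ _ ((X.inv_comm' X.D.cLZ (-1)).inf X.π (X.inv_comm' X.D.cPZ 0))]
    refine le_trans ?_ (Finset.sum_le_sum fun c _ => Submodule.finrank_mono
      (show X.R 0 0 (-1) c ≤ _ from le_inf (le_inf (inf_le_of_left_le inf_le_right)
        (inf_le_of_left_le (inf_le_of_left_le inf_le_left))) inf_le_right))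
    rw [sum_zero_const (F := F) (fun c => finrank ℂ ↥(X.R 0 0 (-1) c)) X.nu (fun c hc => X.M_nu (-1) hc),
      smul_eq_mul]
    exact le_add_self
  -- reparametrise `A` by cube roots
  choose r hr using exists_cube (F := F) h3
  have hradd : ∀ a b, r (a + b) = r a + r b := fun a b => cube_inj h3 (by
    show r (a + b) ^ 3 = (r a + r b) ^ 3
    linear_combination hr (a + b) - hr a - hr b - (r a ^ 2 * r b + r a * r b ^ 2) * h3)
  set A' : F → G := fun w => X.D.A (r w) with hA'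
  have hA'add : OnePar A' := fun a b => by simp only [A', hradd, X.D.addA (r a) (r b)]
  set d : F → ℕ := fun c => finrank ℂ ↥(X.R 0 0 0 1 ⊓ X.E A' c) with hd
  have hdsum : ∑ c, d c = X.nu :=
    (split X.π X.ψ hA'add X.hψ _ fun t v hv => X.inv_A_R h3 (r t) v hv).symm
  have hup : finrank ℂ ↥(X.E X.D.Z 1 ⊓ X.E X.D.A 0) ≤ ∑ l : F, d (-l ^ 2) := by
    rw [split X.π X.ψ X.D.addL X.hψ _ ((X.inv_comm X.D.cLZ 1).inf X.π (X.inv_comm' X.D.cAL 0))]
    refine Finset.sum_le_sum fun l _ => finrank_le_of_act X.π (X.D.B l) fun v hv => ?_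
    obtain ⟨⟨hZ, hA⟩, hL⟩ := hv
    obtain ⟨⟨hP, hS⟩, -⟩ : v ∈ X.E X.D.P 0 ⊓ X.E X.D.S 0 ⊓ X.E X.D.Z 1 := hZ1 ▸ hZ
    refine ⟨by simpa using X.B_mem l (s1 := 0) (s2 := 0) ⟨⟨⟨hP, hS⟩, hL⟩, hZ⟩, fun w => ?_⟩
    rw [hA', ← act_mul, X.D.AB, act_mul]
    simp only [act_mul]
    rw [X.act_of_mem hZ, map_smul, X.act_of_mem hL]
    simp only [map_smul, X.act_of_mem_zero hS, X.act_of_mem_zero hP, X.act_of_mem_zero hA, smul_smul,
      ← AddChar.map_add_eq_mul]
    congr 2
    linear_combination (-(l ^ 2)) * hr w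
  have hfib : ∑ l : F, d (-l ^ 2) ≤ 2 * X.nu := by
    rw [← hdsum, Finset.mul_sum, ← Finset.sum_fiberwise Finset.univ (fun l : F => -l ^ 2)]
    refine Finset.sum_le_sum fun c _ => ?_
    rw [Finset.sum_congr rfl (g := fun _ => d c) fun l hl => by rw [(Finset.mem_filter.1 hl).2], Finset.sum_const,
      smul_eq_mul]
    refine Nat.mul_le_mul_right _ ?_
    rcases (Finset.univ.filter fun l : F => -l ^ 2 = c).eq_empty_or_nonempty with e | ⟨l₀, hl₀⟩
    · simp [e]
    · calc _ ≤ ({l₀, -l₀} : Finset F).card := Finset.card_le_card fun l hl => by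
            have e : l ^ 2 = l₀ ^ 2 := neg_inj.1 ((Finset.mem_filter.1 hl).2.trans (Finset.mem_filter.1 hl₀).2.symm)
            rcases sq_eq_sq_iff_eq_or_eq_neg.1 e with e3 | e3 <;> simp [e3]
        _ ≤ 2 := Finset.card_le_two
  have h := (hlow.trans hup).trans hfib
  have := Nat.le_of_mul_le_mul_right h (Nat.pos_of_ne_zero hne)
  omega

end Ctx

end Cfsg.Agent.Lib.G2Deg41
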